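import Mathlib
import Cfsg.Prelude.Def_RootSubgroups
import Cfsg.Agent.Lib.ThreeTransp.RankOne

/-!
Root groups `{1 + c v φ}` attached to incident vector–covector pairs, in any group with a faithful
matrix representation: the three cases for a pair of them.
-/

set_option autoImplicit false
set_option linter.all false

namespace Cfsg.Agent.RootExamples

open Matrix Cfsg
open scoped commutatorElement

variable {ι : Type*} [Fintype ι] [DecidableEq ι] {k : Type*} [Field k]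

/-- The matrix `1 + c v φ`. -/
def TV (v φ : ι → k) (c : k) : Matrix ι ι k := 1 + c • vecMulVec v φ

theorem TV_zero (v φ : ι → k) : TV v φ (0 : k) = 1 := by simp [TV]

theorem PQ (v φ w ψ : ι → k) :
    vecMulVec v φ * vecMulVec w ψ = (φ ⬝ᵥ w) • vecMulVec v ψ := by
  rw [vecMulVec_mul_vecMulVec, vecMulVec_smul]

theorem TV_mul {v φ : ι → k} (h : φ ⬝ᵥ v = 0) (c d : k) :
    TV v φ c * TV v φ d = TV v φ (c + d) := by
  simp only [TV, add_mul, mul_add, one_mul, mul_one, smul_mul_assoc, mul_smul_comm, PQ, h,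
    zero_smul, smul_zero, add_zero, add_smul]
  abel

theorem TV_det {v φ : ι → k} (h : φ ⬝ᵥ v = 0) (c : k) : (TV v φ c).det = 1 := by
  rw [TV, ← smul_vecMulVec, vecMulVec_eq Unit, det_one_add_replicateCol_mul_replicateRow,
    dotProduct_smul, h, smul_zero, add_zero]

theorem vmv_ne_zero {v φ : ι → k} (hv : v ≠ 0) (hφ : φ ≠ 0) : vecMulVec v φ ≠ 0 := by
  simp [vecMulVec_eq_zero, hv, hφ]

theorem TV_inj {v φ : ι → k} (hv : v ≠ 0) (hφ : φ ≠ 0) {c d : k} (h : TV v φ c = TV v φ d) :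
    c = d := smul_left_injective k (vmv_ne_zero hv hφ) (add_left_cancel h)

theorem TV_mulVec (v φ x : ι → k) (c : k) : TV v φ c *ᵥ x = x + (c * (φ ⬝ᵥ x)) • v := by
  rw [TV, add_mulVec, one_mulVec, smul_mulVec, vecMulVec_mulVec, op_smul_eq_smul, smul_smul]

/-! ### Rank two -/

/-- The elementary matrix in `SL₂`. -/
abbrev el {i j : Fin 2} (h : i ≠ j) (c : k) : SpecialLinearGroup (Fin 2) k :=
  SpecialLinearGroup.transvection h c

theorem el_coe {i j : Fin 2} (h : i ≠ j) (c : k) :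
    ((el h c : SpecialLinearGroup (Fin 2) k) : Matrix (Fin 2) (Fin 2) k) = 1 + single i j c := rfl

theorem el_inv {i j : Fin 2} (h : i ≠ j) (c : k) : (el h c)⁻¹ = el h (-c) :=
  SpecialLinearGroup.transvection_inv h c

theorem el_braid {i j : Fin 2} (h : i ≠ j) (s x : k) (hs : s ≠ 0) :
    el h.symm (-s⁻¹) * el h x * el h.symm s⁻¹
      = el h (-s) * el h.symm (-(s⁻¹ * s⁻¹ * x)) * el h s := by
  refine Matrix.SpecialLinearGroup.ext _ _ fun a b => ?_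
  change (((1 : Matrix (Fin 2) (Fin 2) k) + single j i (-s⁻¹)) * (1 + single i j x) * (1 + single j i s⁻¹) : Matrix (Fin 2) (Fin 2) k) a b
    = (((1 : Matrix (Fin 2) (Fin 2) k) + single i j (-s)) * (1 + single j i (-(s⁻¹ * s⁻¹ * x))) * (1 + single i j s) : Matrix (Fin 2) (Fin 2) k) a b
  fin_cases i <;> fin_cases j <;> simp_all <;> fin_cases a <;> fin_cases b <;>
    simp [Matrix.mul_apply, Fin.sum_univ_two, Matrix.single_apply, Matrix.one_apply] <;>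
    field_simp <;> ring

theorem mem_upper {g : SpecialLinearGroup (Fin 2) k} :
    (g : Matrix (Fin 2) (Fin 2) k) 1 0 = 0 ∧ (g : Matrix (Fin 2) (Fin 2) k) 0 0 = 1 ∧
      (g : Matrix (Fin 2) (Fin 2) k) 1 1 = 1 ↔ ∃ c, g = el (zero_ne_one (α := Fin 2)) c := by
  constructor
  · rintro ⟨h1, h2, h3⟩
    refine ⟨(g : Matrix (Fin 2) (Fin 2) k) 0 1, Subtype.ext ?_⟩
    rw [el_coe]; ext a b
    fin_cases a <;> fin_cases b <;> simp_all [Matrix.single_apply]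
  · rintro ⟨c, rfl⟩
    rw [el_coe]; simp [Matrix.single_apply]

theorem mem_lower {g : SpecialLinearGroup (Fin 2) k} :
    (g : Matrix (Fin 2) (Fin 2) k) 0 1 = 0 ∧ (g : Matrix (Fin 2) (Fin 2) k) 0 0 = 1 ∧
      (g : Matrix (Fin 2) (Fin 2) k) 1 1 = 1 ↔ ∃ c, g = el (one_ne_zero (α := Fin 2)) c := by
  constructor
  · rintro ⟨h1, h2, h3⟩
    refine ⟨(g : Matrix (Fin 2) (Fin 2) k) 1 0, Subtype.ext ?_⟩
    rw [el_coe]; ext a b
    fin_cases a <;> fin_cases b <;> simp_all [Matrix.single_apply]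
  · rintro ⟨c, rfl⟩
    rw [el_coe]; simp [Matrix.single_apply]

/-- The embedding of `SL₂` given by two columns and two dual rows. -/
def emb (M : Matrix ι (Fin 2) k) (N : Matrix (Fin 2) ι k) (h : N * M = 1) :
    SpecialLinearGroup (Fin 2) k →* Matrix ι ι k where
  toFun g := 1 + M * ((g : Matrix (Fin 2) (Fin 2) k) - 1) * N
  map_one' := by simp
  map_mul' g g' := by
    set X := (g : Matrix (Fin 2) (Fin 2) k) - 1 with hX
    set Y := (g' : Matrix (Fin 2) (Fin 2) k) - 1 with hY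
    have hg : ((g * g' : SpecialLinearGroup (Fin 2) k) : Matrix (Fin 2) (Fin 2) k) - 1
        = X + Y + X * Y := by
      simp only [hX, hY]
      change (g : Matrix (Fin 2) (Fin 2) k) * (g' : Matrix (Fin 2) (Fin 2) k) - 1 = _
      noncomm_ring
    rw [hg]
    have hA : M * X * N * (M * Y * N) = M * (X * Y) * N := by
      calc M * X * N * (M * Y * N) = M * X * (N * M) * Y * N := by simp only [Matrix.mul_assoc]
        _ = M * (X * Y) * N := by rw [h]; simp only [Matrix.mul_one, Matrix.mul_assoc]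
    simp only [Matrix.mul_add, Matrix.add_mul, Matrix.one_mul, Matrix.mul_one, hA]
    abel

theorem emb_injective (M : Matrix ι (Fin 2) k) (N : Matrix (Fin 2) ι k) (h : N * M = 1) :
    Function.Injective (emb M N h) := by
  intro g g' e
  have e' : M * ((g : Matrix (Fin 2) (Fin 2) k) - 1) * N
      = M * ((g' : Matrix (Fin 2) (Fin 2) k) - 1) * N := add_left_cancel e
  have key : ∀ X : Matrix (Fin 2) (Fin 2) k, N * (M * X * N) * M = X := fun X => by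
    calc N * (M * X * N) * M = (N * M) * X * (N * M) := by simp only [Matrix.mul_assoc]
      _ = X := by rw [h, Matrix.one_mul, Matrix.mul_one]
  have := congrArg (fun Z => N * Z * M) e'
  simp only [key] at this
  exact Subtype.ext (sub_left_injective this)

theorem emb_el (M : Matrix ι (Fin 2) k) (N : Matrix (Fin 2) ι k) (h : N * M = 1) {i j : Fin 2}
    (hij : i ≠ j) (c : k) : emb M N h (el hij c) = TV (fun r => M r i) (N j) c := by
  show 1 + M * (((el hij c : SpecialLinearGroup (Fin 2) k) : Matrix (Fin 2) (Fin 2) k) - 1) * N = _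
  rw [el_coe, add_sub_cancel_left, TV]
  congr 1
  ext a b
  fin_cases i <;> fin_cases j <;>
    simp_all [Matrix.mul_apply, Fin.sum_univ_two, Matrix.single_apply, vecMulVec_apply] <;> ring

/-! ### Root groups in a group with a faithful representation -/

variable {G : Type*} [Group G] (f : G →* Matrix ι ι k)

/-- `A` is the root group of the incident pair `(v, φ)`. -/
structure IsX (A : Subgroup G) (v φ : ι → k) : Prop where
  vne : v ≠ 0
  φne : φ ≠ 0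
  inc : φ ⬝ᵥ v = 0
  mem : ∀ g, g ∈ A ↔ ∃ c, f g = TV v φ c
  ex : ∀ c, ∃ g, f g = TV v φ c

variable {f}

theorem f_inv {v φ : ι → k} (h : φ ⬝ᵥ v = 0) {g : G} {c : k} (hg : f g = TV v φ c) :
    f g⁻¹ = TV v φ (-c) := by
  calc f g⁻¹ = f g⁻¹ * (f g * TV v φ (-c)) := by
        rw [hg, TV_mul h, add_neg_cancel, TV_zero, mul_one]
    _ = TV v φ (-c) := by rw [← mul_assoc, ← map_mul, inv_mul_cancel, map_one, one_mul]

open scoped IsMulCommutative in
theorem nilp (A : Subgroup G) [IsMulCommutative A] : Group.IsNilpotent A := inferInstance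

variable (hf : Function.Injective f)
include hf

theorem IsX.unique {A B : Subgroup G} {v φ : ι → k} (hA : IsX f A v φ) (hB : IsX f B v φ) :
    A = B := by
  ext g; rw [hA.mem, hB.mem]

theorem IsX.comm {A : Subgroup G} {v φ : ι → k} (hA : IsX f A v φ) : IsMulCommutative A := by
  refine ⟨⟨fun a b => Subtype.ext (hf ?_)⟩⟩
  obtain ⟨c, hc⟩ := (hA.mem a).1 a.2
  obtain ⟨d, hd⟩ := (hA.mem b).1 b.2
  show f ((a : G) * b) = f ((b : G) * a)
  rw [map_mul, map_mul, hc, hd, TV_mul hA.inc, TV_mul hA.inc, add_comm]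

theorem IsX.ne_bot {A : Subgroup G} {v φ : ι → k} (hA : IsX f A v φ) : A ≠ ⊥ := by
  intro e
  obtain ⟨g, hg⟩ := hA.ex 1
  have h1 : g ∈ A := (hA.mem g).2 ⟨1, hg⟩
  rw [e, Subgroup.mem_bot] at h1
  subst h1
  rw [map_one, ← TV_zero v φ] at hg
  exact zero_ne_one (TV_inj hA.vne hA.φne hg)

theorem IsX.coeff_ne {A : Subgroup G} {v φ : ι → k} {g : G} (hg1 : g ≠ 1) {c : k}
    (hc : f g = TV v φ c) : c ≠ 0 := by
  rintro rfl
  exact hg1 (hf (by rw [hc, TV_zero, map_one]))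

/-- Commuting case. -/
theorem comm_case {A B : Subgroup G} {v φ w ψ : ι → k} (hA : IsX f A v φ) (hB : IsX f B w ψ)
    (h1 : φ ⬝ᵥ w = 0) (h2 : ψ ⬝ᵥ v = 0) : ⁅A, B⁆ = ⊥ := by
  rw [Subgroup.commutator_eq_bot_iff_le_centralizer]
  intro a ha b hb
  obtain ⟨s, hs⟩ := (hA.mem a).1 ha
  obtain ⟨t, ht⟩ := (hB.mem b).1 hb
  refine hf ?_
  rw [map_mul, map_mul, hs, ht]
  simp only [TV, add_mul, mul_add, one_mul, mul_one, smul_mul_assoc, mul_smul_comm, PQ, h1, h2,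
    zero_smul, smul_zero, add_zero]
  abel

/-- The embedded `SL₂` of a pair with both products non-zero. -/
theorem pair_hom {A B : Subgroup G} {v φ w ψ : ι → k} (hA : IsX f A v φ) (hB : IsX f B w ψ)
    (h1 : φ ⬝ᵥ w ≠ 0) (h2 : ψ ⬝ᵥ v ≠ 0) :
    ∃ Ψ : SpecialLinearGroup (Fin 2) k →* G, Function.Injective Ψ ∧
      (∀ c, f (Ψ (el (zero_ne_one (α := Fin 2)) c)) = TV v φ (c / (φ ⬝ᵥ w))) ∧
      (∀ c, f (Ψ (el (one_ne_zero (α := Fin 2)) c)) = TV w ψ (c / (ψ ⬝ᵥ v))) := by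
  let M : Matrix ι (Fin 2) k := Matrix.of fun r j => ![v r, w r] j
  let N : Matrix (Fin 2) ι k := Matrix.of ![(ψ ⬝ᵥ v)⁻¹ • ψ, (φ ⬝ᵥ w)⁻¹ • φ]
  have hNM : N * M = 1 := by
    have e : ∀ (i j : Fin 2), (N * M) i j = N i ⬝ᵥ fun r => M r j := fun _ _ => rfl
    ext i j
    rw [e]
    fin_cases i <;> fin_cases j
    · show ((ψ ⬝ᵥ v)⁻¹ • ψ) ⬝ᵥ v = _
      simp [h2]
    · show ((ψ ⬝ᵥ v)⁻¹ • ψ) ⬝ᵥ w = _
      simp [hB.inc]
    · show ((φ ⬝ᵥ w)⁻¹ • φ) ⬝ᵥ v = _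
      simp [hA.inc]
    · show ((φ ⬝ᵥ w)⁻¹ • φ) ⬝ᵥ w = _
      simp [h1]
  have hu : ∀ c, emb M N hNM (el (zero_ne_one (α := Fin 2)) c) = TV v φ (c / (φ ⬝ᵥ w)) := fun c => by
    rw [emb_el]
    show TV v ((φ ⬝ᵥ w)⁻¹ • φ) c = _
    rw [TV, TV, vecMulVec_smul, smul_smul, div_eq_mul_inv]
  have hl : ∀ c, emb M N hNM (el (one_ne_zero (α := Fin 2)) c) = TV w ψ (c / (ψ ⬝ᵥ v)) := fun c => by
    rw [emb_el]
    show TV w ((ψ ⬝ᵥ v)⁻¹ • ψ) c = _
    rw [TV, TV, vecMulVec_smul, smul_smul, div_eq_mul_inv]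
  have hex : ∀ g, ∃ x, f x = emb M N hNM g := by
    intro g
    refine Matrix.SL2.transvection_induction
      (fun g => ∃ x, f x = emb M N hNM g) (fun i j h c => ?_) (fun a b ha hb => ?_) g
    · fin_cases i <;> fin_cases j
      · exact absurd rfl h
      · obtain ⟨x, hx⟩ := hA.ex (c / (φ ⬝ᵥ w)); exact ⟨x, hx.trans (hu c).symm⟩
      · obtain ⟨x, hx⟩ := hB.ex (c / (ψ ⬝ᵥ v)); exact ⟨x, hx.trans (hl c).symm⟩
      · exact absurd rfl h
    · obtain ⟨x, hx⟩ := ha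
      obtain ⟨y, hy⟩ := hb
      exact ⟨x * y, by rw [map_mul, map_mul, hx, hy]⟩
  choose x hx using hex
  refine ⟨MonoidHom.mk' x fun a b => hf (by rw [map_mul, hx, hx, hx, map_mul]), ?_, ?_, ?_⟩
  · intro a b e
    refine emb_injective M N hNM ?_
    rw [← hx, ← hx]
    exact congrArg f e
  · exact fun c => (hx _).trans (hu c)
  · exact fun c => (hx _).trans (hl c)

theorem mem_image {A : Subgroup G} {v φ : ι → k} (hA : IsX f A v φ)
    {Ψ : SpecialLinearGroup (Fin 2) k →* G} {i j : Fin 2} (hij : i ≠ j) {d : k} (hd : d ≠ 0)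
    (h : ∀ c, f (Ψ (el hij c)) = TV v φ (c / d)) (g : G) :
    g ∈ A ↔ ∃ c, g = Ψ (el hij c) := by
  rw [hA.mem]
  constructor
  · rintro ⟨c, hc⟩; exact ⟨c * d, hf (by rw [h, hc, mul_div_assoc, div_self hd, mul_one])⟩
  · rintro ⟨c, rfl⟩; exact ⟨_, h c⟩

omit hf in
theorem rankOneCondition_of_hom {A B : Subgroup G} {Ψ : SpecialLinearGroup (Fin 2) k →* G}
    (hΨ : Function.Injective Ψ) {i j : Fin 2} (hij : i ≠ j)
    (hA : ∀ g, g ∈ A ↔ ∃ c, g = Ψ (el hij c)) (hB : ∀ g, g ∈ B ↔ ∃ c, g = Ψ (el hij.symm c)) :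
    RankOneCondition A B := by
  intro a ha ha1
  obtain ⟨s, rfl⟩ := (hA a).1 ha
  have el0 : ∀ {i j : Fin 2} (h : i ≠ j), el h (0 : k) = 1 := fun h => by
    refine Subtype.ext ?_; rw [el_coe]; simp
  have hs : s ≠ 0 := by
    rintro rfl; exact ha1 (by rw [el0, map_one])
  refine ⟨Ψ (el hij.symm s⁻¹), (hB _).2 ⟨_, rfl⟩, fun e => ?_, ?_⟩
  · have e' : el hij.symm s⁻¹ = 1 := hΨ (by rw [e, map_one])
    have := congrFun (congrFun (congrArg Subtype.val e') j) i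
    simp [el_coe, hij.symm, inv_eq_zero, hs] at this
  · have key : ∀ x, (Ψ (el hij.symm s⁻¹))⁻¹ * Ψ (el hij x) * Ψ (el hij.symm s⁻¹)
        = (Ψ (el hij s))⁻¹ * Ψ (el hij.symm (-(s⁻¹ * s⁻¹ * x))) * Ψ (el hij s) := fun x => by
      rw [← map_inv, ← map_inv, ← map_mul, ← map_mul, ← map_mul, ← map_mul, el_inv, el_inv,
        el_braid hij s x hs]
    ext z
    simp only [conjBy, Subgroup.mem_map, MulEquiv.coe_toMonoidHom, MulAut.conj_apply, inv_inv]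
    constructor
    · rintro ⟨y, hy, rfl⟩
      obtain ⟨x, rfl⟩ := (hA y).1 hy
      exact ⟨_, (hB _).2 ⟨_, rfl⟩, (key x).symm⟩
    · rintro ⟨y, hy, rfl⟩
      obtain ⟨t, rfl⟩ := (hB y).1 hy
      refine ⟨_, (hA _).2 ⟨-(s * s * t), rfl⟩, ?_⟩
      rw [key]
      congr 4
      field_simp

omit hf in
theorem rankOne_of_hom {A B : Subgroup G} [IsMulCommutative A] [IsMulCommutative B]
    {Ψ : SpecialLinearGroup (Fin 2) k →* G} (hΨ : Function.Injective Ψ)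
    (mA : ∀ g, g ∈ A ↔ ∃ c, g = Ψ (el (zero_ne_one (α := Fin 2)) c))
    (mB : ∀ g, g ∈ B ↔ ∃ c, g = Ψ (el (one_ne_zero (α := Fin 2)) c)) :
    IsRankOnePair A B ∧ IsPSL2PairOver k A B := by
  refine ⟨⟨fun e => ?_, nilp A, nilp B, ?_, ?_⟩, Ψ, ?_⟩
  · have : Ψ (el (zero_ne_one (α := Fin 2)) (1 : k)) ∈ B := e ▸ (mA _).2 ⟨1, rfl⟩
    obtain ⟨c, hc⟩ := (mB _).1 this
    have h01 := congrFun (congrFun (congrArg Subtype.val (hΨ hc)) 0) 1
    simp [el_coe] at h01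
  · exact rankOneCondition_of_hom hΨ _ mA mB
  · exact rankOneCondition_of_hom hΨ _ mB mA
  have hU : (upperUnipotentSL2 k).map Ψ = A := by
    rw [upperUnipotentSL2, MonoidHom.map_closure]
    refine le_antisymm ((Subgroup.closure_le _).2 ?_) fun g hg => ?_
    · rintro _ ⟨g, hg, rfl⟩
      obtain ⟨c, rfl⟩ := mem_upper.1 hg
      exact (mA _).2 ⟨c, rfl⟩
    · obtain ⟨c, rfl⟩ := (mA _).1 hg
      exact Subgroup.subset_closure ⟨_, mem_upper.2 ⟨c, rfl⟩, rfl⟩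
  have hL : (lowerUnipotentSL2 k).map Ψ = B := by
    rw [lowerUnipotentSL2, MonoidHom.map_closure]
    refine le_antisymm ((Subgroup.closure_le _).2 ?_) fun g hg => ?_
    · rintro _ ⟨g, hg, rfl⟩
      obtain ⟨c, rfl⟩ := mem_lower.1 hg
      exact (mB _).2 ⟨c, rfl⟩
    · obtain ⟨c, rfl⟩ := (mB _).1 hg
      exact Subgroup.subset_closure ⟨_, mem_lower.2 ⟨c, rfl⟩, rfl⟩
  refine ⟨?_, fun g hg => ?_, hU, hL⟩
  · refine le_antisymm ?_ (sup_le (hU ▸ ?_) (hL ▸ ?_))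
    · rintro _ ⟨g, rfl⟩
      refine Matrix.SL2.transvection_induction (fun g => Ψ g ∈ A ⊔ B)
        (fun i j h c => ?_) (fun a b ha hb => by rw [map_mul]; exact mul_mem ha hb) g
      fin_cases i <;> fin_cases j
      · exact absurd rfl h
      · exact Subgroup.mem_sup_left ((mA _).2 ⟨c, rfl⟩)
      · exact Subgroup.mem_sup_right ((mB _).2 ⟨c, rfl⟩)
      · exact absurd rfl h
    · exact Subgroup.map_le_range _ _
    · exact Subgroup.map_le_range _ _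
  · rw [MonoidHom.mem_ker] at hg
    rw [hΨ (hg.trans (map_one Ψ).symm)]
    exact one_mem _

omit hf in
theorem not_commutatorCase_of_hom {S : Set (Subgroup G)} {A B : Subgroup G}
    {Ψ : SpecialLinearGroup (Fin 2) k →* G} (hΨ : Function.Injective Ψ)
    (mA : ∀ g, g ∈ A ↔ ∃ c, g = Ψ (el (zero_ne_one (α := Fin 2)) c))
    (mB : ∀ g, g ∈ B ↔ ∃ c, g = Ψ (el (one_ne_zero (α := Fin 2)) c)) :
    ¬ RootCommutatorCase S A B := by
  intro hc
  set a := el (zero_ne_one (α := Fin 2)) (1 : k) with ha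
  set b := el (one_ne_zero (α := Fin 2)) (1 : k) with hb
  have hpa : Ψ a ∈ A := (mA _).2 ⟨1, rfl⟩
  have hqb : Ψ b ∈ B := (mB _).2 ⟨1, rfl⟩
  have hcom := hc.2.1 (Ψ (a * b * a⁻¹ * b⁻¹)) (by
    rw [map_mul, map_mul, map_mul, map_inv, map_inv, ← commutatorElement_def]
    exact Subgroup.commutator_mem_commutator hpa hqb) (Ψ a) (Subgroup.mem_sup_left hpa)
  rw [← map_mul, ← map_mul] at hcom
  have h11 := congrFun (congrFun (congrArg (fun x : SpecialLinearGroup (Fin 2) k =>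
    (x : Matrix (Fin 2) (Fin 2) k)) (hΨ hcom)) 1) 1
  rw [ha, hb, el_inv, el_inv] at h11
  simp [el_coe, Matrix.mul_apply, Fin.sum_univ_two] at h11

/-- The rank one case. -/
theorem rankOne_case {A B : Subgroup G} {v φ w ψ : ι → k} (hA : IsX f A v φ) (hB : IsX f B w ψ)
    (h1 : φ ⬝ᵥ w ≠ 0) (h2 : ψ ⬝ᵥ v ≠ 0) : IsRankOnePair A B ∧ IsPSL2PairOver k A B := by
  obtain ⟨Ψ, hΨ, hu, hl⟩ := pair_hom hf hA hB h1 h2
  have := hA.comm hf
  have := hB.comm hf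
  exact rankOne_of_hom hΨ (mem_image hf hA _ h1 hu) (mem_image hf hB _ h2 hl)

/-- Commutator of two elements in the commutator case. -/
theorem f_comm {A B : Subgroup G} {v φ w ψ : ι → k} (hA : IsX f A v φ) (hB : IsX f B w ψ)
    (h2 : ψ ⬝ᵥ v = 0) {a b : G} {s t : k} (ha : f a = TV v φ s) (hb : f b = TV w ψ t) :
    f (a * b * a⁻¹ * b⁻¹) = TV v ψ (s * t * (φ ⬝ᵥ w)) := by
  rw [map_mul, map_mul, map_mul, ha, hb, f_inv hA.inc ha, f_inv hB.inc hb]
  simp only [TV, add_mul, mul_add, one_mul, mul_one, smul_mul_assoc, mul_smul_comm, PQ, h2,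
    hA.inc, hB.inc, zero_smul, smul_zero, add_zero, zero_add, smul_smul]
  module

/-- The commutator case. -/
theorem comm2_case {A B C : Subgroup G} {v φ w ψ : ι → k} (hA : IsX f A v φ) (hB : IsX f B w ψ)
    (hC : IsX f C v ψ) (h1 : φ ⬝ᵥ w ≠ 0) (h2 : ψ ⬝ᵥ v = 0) :
    ⁅A, B⁆ = C ∧ (∀ c ∈ C, ∀ x ∈ A ⊔ B, c * x = x * c) ∧
    (∀ a ∈ A, a ≠ 1 → Subgroup.closure ((fun b : G => a * b * a⁻¹ * b⁻¹) '' (B : Set G)) = C) ∧
    (∀ b ∈ B, b ≠ 1 → Subgroup.closure ((fun a : G => a * b * a⁻¹ * b⁻¹) '' (A : Set G)) = C) ∧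
    ¬ IsRankOnePair A B := by
  have hmem : ∀ a ∈ A, ∀ b ∈ B, a * b * a⁻¹ * b⁻¹ ∈ C := fun a ha b hb => by
    obtain ⟨s, hs⟩ := (hA.mem a).1 ha
    obtain ⟨t, ht⟩ := (hB.mem b).1 hb
    exact (hC.mem _).2 ⟨_, f_comm hf hA hB h2 hs ht⟩
  have hsurjA : ∀ a ∈ A, a ≠ 1 → ∀ c ∈ C, ∃ b ∈ B, a * b * a⁻¹ * b⁻¹ = c := fun a ha ha1 c hc => by
    obtain ⟨s, hs⟩ := (hA.mem a).1 ha
    obtain ⟨d, hd⟩ := (hC.mem c).1 hc
    obtain ⟨b, hb⟩ := hB.ex (d / (s * (φ ⬝ᵥ w)))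
    refine ⟨b, (hB.mem b).2 ⟨_, hb⟩, hf ?_⟩
    rw [f_comm hf hA hB h2 hs hb, hd]
    have := IsX.coeff_ne (A := A) hf ha1 hs
    congr 1; field_simp
  have hsurjB : ∀ b ∈ B, b ≠ 1 → ∀ c ∈ C, ∃ a ∈ A, a * b * a⁻¹ * b⁻¹ = c := fun b hb hb1 c hc => by
    obtain ⟨t, ht⟩ := (hB.mem b).1 hb
    obtain ⟨d, hd⟩ := (hC.mem c).1 hc
    obtain ⟨a, ha⟩ := hA.ex (d / (t * (φ ⬝ᵥ w)))
    refine ⟨a, (hA.mem a).2 ⟨_, ha⟩, hf ?_⟩
    rw [f_comm hf hA hB h2 ha ht, hd]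
    have := IsX.coeff_ne (A := B) hf hb1 ht
    congr 1; field_simp
  have clA : ∀ a ∈ A, a ≠ 1 →
      Subgroup.closure ((fun b : G => a * b * a⁻¹ * b⁻¹) '' (B : Set G)) = C := fun a ha ha1 => by
    refine le_antisymm ((Subgroup.closure_le _).2 ?_) fun c hc => ?_
    · rintro _ ⟨b, hb, rfl⟩; exact hmem a ha b hb
    · obtain ⟨b, hb, rfl⟩ := hsurjA a ha ha1 c hc
      exact Subgroup.subset_closure ⟨b, hb, rfl⟩
  have hC' : ⁅A, B⁆ = C := by
    refine le_antisymm (Subgroup.commutator_le.2 fun a ha b hb => ?_) fun c hc => ?_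
    · rw [commutatorElement_def]; exact hmem a ha b hb
    · obtain ⟨a, ha, ha1⟩ := (Subgroup.ne_bot_iff_exists_ne_one.1 (hA.ne_bot hf)) |> fun ⟨⟨a, ha⟩, h⟩ =>
        (⟨a, ha, fun e => h (Subtype.ext e)⟩ : ∃ a, a ∈ A ∧ a ≠ 1)
      obtain ⟨b, hb, rfl⟩ := hsurjA a ha ha1 c hc
      rw [← commutatorElement_def]
      exact Subgroup.commutator_mem_commutator ha hb
  have hcent : ∀ c ∈ C, ∀ x ∈ A ⊔ B, c * x = x * c := fun c hc x hx => by
    have hle : A ⊔ B ≤ Subgroup.centralizer {c} := by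
      have e1 := comm_case hf hC hA (v := v) (w := v) h2 hA.inc
      have e2 := comm_case hf hC hB hB.inc h2
      rw [Subgroup.commutator_eq_bot_iff_le_centralizer] at e1 e2
      refine sup_le (fun y hy => ?_) (fun y hy => ?_) <;> rw [Subgroup.mem_centralizer_singleton_iff]
      · exact e1 hc y hy
      · exact e2 hc y hy
    exact (Subgroup.mem_centralizer_singleton_iff.1 (hle hx)).symm
  refine ⟨hC', hcent, clA, fun b hb hb1 => ?_, fun hp => ?_⟩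
  · refine le_antisymm ((Subgroup.closure_le _).2 ?_) fun c hc => ?_
    · rintro _ ⟨a, ha, rfl⟩; exact hmem a ha b hb
    · obtain ⟨a, ha, rfl⟩ := hsurjB b hb hb1 c hc
      exact Subgroup.subset_closure ⟨a, ha, rfl⟩
  · obtain ⟨a, ha, ha1⟩ := ThreeTransp.RankOne.exists_ne_one hp
    obtain ⟨b, hb, -, e⟩ := hp.cond_left a ha ha1
    have hab : b⁻¹ * a * b ∈ conjBy B a⁻¹ := e ▸ ⟨a, ha, by simp⟩
    obtain ⟨y, hy, hy'⟩ := hab
    simp only [MulEquiv.coe_toMonoidHom, MulAut.conj_apply, inv_inv] at hy'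
    have hy2 : y = a * b⁻¹ * a * b * a⁻¹ := by
      have : y = a * (a⁻¹ * y * a) * a⁻¹ := by group
      rw [this, hy']; group
    obtain ⟨s, hs⟩ := (hA.mem a).1 ha
    have hcc : b⁻¹ * a * b * a⁻¹ ∈ C := by
      have h := C.inv_mem (hmem a ha b⁻¹ (inv_mem hb))
      simpa [mul_assoc] using h
    have hy4 : y = (b⁻¹ * a * b * a⁻¹) * a := by
      rw [hy2]
      calc a * b⁻¹ * a * b * a⁻¹ = a * (b⁻¹ * a * b * a⁻¹) := by group
        _ = (b⁻¹ * a * b * a⁻¹) * a := (hcent _ hcc a (Subgroup.mem_sup_left ha)).symm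
    obtain ⟨d, hd⟩ := (hC.mem _).1 hcc
    obtain ⟨t, ht⟩ := (hB.mem y).1 hy
    have h := congrArg (fun M : Matrix ι ι k => M *ᵥ w)
      ((congrArg f hy4).symm.trans ht)
    simp only [map_mul, hd, hs, ← mulVec_mulVec, TV_mulVec, mulVec_add, mulVec_smul, hB.inc, h2,
      mul_zero, zero_smul, add_zero, smul_zero, smul_eq_mul, dotProduct_add, dotProduct_smul] at h
    simp [hA.vne, h1, IsX.coeff_ne (A := A) hf ha1 hs] at h

theorem conj {A : Subgroup G} {v φ : ι → k} (hA : IsX f A v φ) (g : G) :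
    IsX f (conjBy A g) (f g *ᵥ v) (φ ᵥ* f g⁻¹) := by
  have h1 : f g⁻¹ * f g = 1 := by rw [← map_mul, inv_mul_cancel, map_one]
  have h2 : f g * f g⁻¹ = 1 := by rw [← map_mul, mul_inv_cancel, map_one]
  have e : ∀ c, f g * TV v φ c * f g⁻¹ = TV (f g *ᵥ v) (φ ᵥ* f g⁻¹) c := fun c => by
    rw [TV, TV, mul_add, add_mul, mul_one, h2, mul_smul_comm, smul_mul_assoc, mul_vecMulVec,
      vecMulVec_mul]
  refine ⟨fun h => hA.vne ?_, fun h => hA.φne ?_, ?_, fun x => ?_, fun c => ?_⟩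
  · simpa [mulVec_mulVec, h1] using congrArg (f g⁻¹ *ᵥ ·) h
  · simpa [vecMul_vecMul, h1] using congrArg (· ᵥ* f g) h
  · rw [← dotProduct_mulVec, mulVec_mulVec, h1, one_mulVec, hA.inc]
  · rw [ThreeTransp.RankOne.mem_conjBy, hA.mem]
    refine exists_congr fun c => ⟨fun h => ?_, fun h => ?_⟩
    · rw [← e, ← h, ← map_mul, ← map_mul]
      congr 1; group
    · rw [map_mul, map_mul, h, ← e, ← mul_assoc, ← mul_assoc, h1, one_mul, mul_assoc, h1, mul_one]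
  · obtain ⟨x, hx⟩ := hA.ex c
    exact ⟨g * x * g⁻¹, by rw [map_mul, map_mul, hx, e]⟩

omit hf in
theorem exists_both (φ ψ : ι → k) (hφ : φ ≠ 0) (hψ : ψ ≠ 0) :
    ∃ u : ι → k, φ ⬝ᵥ u ≠ 0 ∧ ψ ⬝ᵥ u ≠ 0 := by
  obtain ⟨i, hi⟩ := Function.ne_iff.1 hφ
  obtain ⟨j, hj⟩ := Function.ne_iff.1 hψ
  simp only [Pi.zero_apply] at hi hj
  by_cases h1 : ψ i = 0
  · by_cases h2 : φ j = 0
    · exact ⟨Pi.single i 1 + Pi.single j 1, by simp [h2, hi], by simp [h1, hj]⟩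
    · exact ⟨Pi.single j 1, by simp [h2], by simp [hj]⟩
  · exact ⟨Pi.single i 1, by simp [hi], by simp [h1]⟩

end Cfsg.Agent.RootExamples
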