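import Mathlib
import Cfsg.Agent.Lib.RootExamples.Basic
import Cfsg.Agent.Lib.Classical.Linear

/-!
Transvection root groups of `SL_n`: membership, transitivity, generation.
-/

set_option autoImplicit false
set_option linter.all false

namespace Cfsg.Agent.RootExamples.Linear

open Matrix Cfsg

variable {k : Type*} [Field k] {n : ℕ}

local notation "SL" => Matrix.SpecialLinearGroup (Fin (n + 3)) k
local notation "V" => Fin (n + 3) → k

/-- The inclusion in the matrix ring. -/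
def coeHom : SL →* Matrix (Fin (n + 3)) (Fin (n + 3)) k where
  toFun g := (g : Matrix (Fin (n + 3)) (Fin (n + 3)) k)
  map_one' := rfl
  map_mul' _ _ := rfl

theorem coeHom_injective : Function.Injective (coeHom : SL →* _) := fun _ _ h => Subtype.ext h

/-- The transvection `1 + c v φ` in `SL`. -/
def tvSL (v φ : V) (h : φ ⬝ᵥ v = 0) (c : k) : SL := ⟨TV v φ c, TV_det h c⟩

theorem coeHom_tvSL (v φ : V) (h : φ ⬝ᵥ v = 0) (c : k) : coeHom (tvSL v φ h c) = TV v φ c := rfl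

theorem exists_one {x y : V} {i j : Fin (n + 3)} (hD : x i * y j - x j * y i ≠ 0) :
    ∃ u : V, x ⬝ᵥ u = 1 ∧ y ⬝ᵥ u = 1 := by
  refine ⟨(x i * y j - x j * y i)⁻¹ • (Pi.single i (y j - x j) + Pi.single j (x i - y i)), ?_, ?_⟩ <;>
    · rw [dotProduct_smul, dotProduct_add, dotProduct_single, dotProduct_single, smul_eq_mul,
        inv_mul_eq_iff_eq_mul₀ hD]
      ring

theorem move_vec {x y : V} {i j : Fin (n + 3)} (hD : x i * y j - x j * y i ≠ 0) :
    ∃ g : SL, coeHom g *ᵥ x = y := by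
  obtain ⟨χ, h1, h2⟩ := exists_one hD
  rw [dotProduct_comm] at h1 h2
  have hinc : χ ⬝ᵥ (y - x) = 0 := by rw [dotProduct_sub, h1, h2, sub_self]
  refine ⟨tvSL _ _ hinc 1, ?_⟩
  rw [coeHom_tvSL, TV_mulVec, h1, one_mul, one_smul]
  abel

theorem move_cov {φ χ : V} (hφ : φ 0 = 0) (hχ : χ 0 = 0) {i j : Fin (n + 3)}
    (hD : φ i * χ j - φ j * χ i ≠ 0) :
    ∃ g : SL, φ ᵥ* coeHom g = χ ∧ coeHom g *ᵥ Pi.single 0 1 = Pi.single 0 1 := by
  obtain ⟨u, h1, h2⟩ := exists_one hD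
  have hinc : (χ - φ) ⬝ᵥ u = 0 := by rw [sub_dotProduct, h1, h2, sub_self]
  refine ⟨tvSL _ _ hinc 1, ?_, ?_⟩
  · rw [coeHom_tvSL, TV, one_smul, vecMul_add, vecMul_one, vecMul_vecMulVec, h1, one_smul,
      add_sub_cancel]
  · rw [coeHom_tvSL, TV_mulVec]
    simp [hφ, hχ]

theorem single_ne {a : Fin (n + 3)} {v : V} (hv : v ≠ 0) (h : ∀ j, j ≠ a → v j = 0) : v a ≠ 0 := by
  intro h0
  refine hv (funext fun j => ?_)
  rcases eq_or_ne j a with rfl | hj
  · exact h0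
  · exact h j hj

/-- `SL` is transitive on incident vector–covector pairs. -/
theorem exists_std {v φ : V} (hv : v ≠ 0) (hφ : φ ≠ 0) (h : φ ⬝ᵥ v = 0) :
    ∃ g : SL, coeHom g *ᵥ Pi.single 0 1 = v ∧ φ ᵥ* coeHom g = Pi.single 1 1 := by
  obtain ⟨g, hg⟩ : ∃ g : SL, coeHom g *ᵥ Pi.single 0 1 = v := by
    by_cases hj : ∃ j, j ≠ 0 ∧ v j ≠ 0
    · obtain ⟨j, hj0, hvj⟩ := hj
      exact move_vec (i := 0) (j := j) (by simp [Pi.single_apply, hj0, hvj])
    · push Not at hj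
      have hv0 := single_ne hv hj
      obtain ⟨g1, hg1⟩ := move_vec (x := (Pi.single 0 1 : V)) (y := Pi.single 1 1) (i := 0) (j := 1)
        (by simp)
      obtain ⟨g2, hg2⟩ := move_vec (x := (Pi.single 1 1 : V)) (y := v) (i := 1) (j := 0)
        (by simp [hv0])
      exact ⟨g2 * g1, by rw [map_mul, ← mulVec_mulVec, hg1, hg2]⟩
  set φ' := φ ᵥ* coeHom g with hφ'
  have h0 : φ' 0 = 0 := by
    have : φ' ⬝ᵥ Pi.single 0 1 = 0 := by rw [hφ', ← dotProduct_mulVec, hg, h]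
    simpa using this
  have hne : φ' ≠ 0 := fun e => hφ (by
    have h1 : coeHom g * coeHom g⁻¹ = 1 := by rw [← map_mul, mul_inv_cancel, map_one]
    have := congrArg (· ᵥ* coeHom g⁻¹) e
    simpa [hφ', vecMul_vecMul, h1] using this)
  suffices ∃ b : SL, φ' ᵥ* coeHom b = Pi.single 1 1 ∧
      coeHom b *ᵥ Pi.single 0 1 = Pi.single 0 1 by
    obtain ⟨b, hb1, hb2⟩ := this
    exact ⟨g * b, by rw [map_mul, ← mulVec_mulVec, hb2, hg],
      by rw [map_mul, ← vecMul_vecMul, ← hφ', hb1]⟩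
  have h10 : (1 : Fin (n + 3)) ≠ 0 := by simp [Fin.ext_iff]
  have h20 : (2 : Fin (n + 3)) ≠ 0 := by simp [Fin.ext_iff, Nat.mod_eq_of_lt]
  have h21 : (2 : Fin (n + 3)) ≠ 1 := by simp [Fin.ext_iff, Nat.mod_eq_of_lt]
  by_cases hj : ∃ j, j ≠ 1 ∧ φ' j ≠ 0
  · obtain ⟨j, hj1, hφj⟩ := hj
    exact move_cov h0 (by simp [Pi.single_apply, h10.symm]) (i := j) (j := 1)
      (by simp [Pi.single_apply, hj1, hφj])
  · push Not at hj
    have ha := single_ne hne hj
    obtain ⟨b1, hb1, hb1'⟩ := move_cov (φ := φ') (χ := (Pi.single 2 1 : V)) h0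
      (by simp [Pi.single_apply, h20.symm]) (i := 1) (j := 2)
      (by simp [Pi.single_apply, h21, h21.symm, ha])
    obtain ⟨b2, hb2, hb2'⟩ := move_cov (φ := (Pi.single 2 1 : V)) (χ := Pi.single 1 1)
      (by simp [Pi.single_apply, h20.symm]) (by simp [Pi.single_apply, h10.symm]) (i := 2) (j := 1)
      (by simp [Pi.single_apply, h21, h21.symm])
    exact ⟨b1 * b2, by rw [map_mul, ← vecMul_vecMul, hb1, hb2],
      by rw [map_mul, ← mulVec_mulVec, hb2', hb1']⟩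

theorem transvection_eq {i j : Fin (n + 3)} (c : k) :
    Matrix.transvection i j c = TV (Pi.single i 1) (Pi.single j 1) c := by
  rw [Matrix.transvection, TV]
  congr 1
  ext a b
  simp [Matrix.single_apply, vecMulVec_apply, Pi.single_apply]
  split_ifs <;> simp_all

/-- The root group `⟨1 + c E₁₂⟩`. -/
def X0 : Subgroup SL :=
  Subgroup.closure {t : SL | ∃ c : k, (t : Matrix (Fin (n + 3)) (Fin (n + 3)) k)
    = Matrix.transvection 0 1 c}

theorem isX_X0 : IsX (coeHom : SL →* _) X0 (Pi.single 0 1) (Pi.single 1 1) := by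
  have hinc : (Pi.single 1 1 : V) ⬝ᵥ Pi.single 0 1 = 0 := by simp
  refine ⟨by simp, by simp, hinc, fun g => ⟨fun hg => ?_, ?_⟩, fun c => ⟨tvSL _ _ hinc c, rfl⟩⟩
  · rw [X0] at hg
    induction hg using Subgroup.closure_induction with
    | mem x hx => obtain ⟨c, hc⟩ := hx; exact ⟨c, hc.trans (transvection_eq c)⟩
    | one => exact ⟨0, by rw [map_one, TV_zero]⟩
    | mul x y _ _ hx hy =>
      obtain ⟨c, hc⟩ := hx; obtain ⟨d, hd⟩ := hy
      exact ⟨c + d, by rw [map_mul, hc, hd, TV_mul hinc]⟩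
    | inv x _ hx => obtain ⟨c, hc⟩ := hx; exact ⟨-c, f_inv hinc hc⟩
  · rintro ⟨c, hc⟩
    exact Subgroup.subset_closure ⟨c, (show _ = _ from hc).trans (transvection_eq c).symm⟩

/-- The class of transvection root groups. -/
def S : Set (Subgroup SL) := {A | ∃ g : SL, A = conjBy X0 g}

theorem mem_S {A : Subgroup SL} : A ∈ S ↔ ∃ v φ, IsX (coeHom : SL →* _) A v φ := by
  constructor
  · rintro ⟨g, rfl⟩
    exact ⟨_, _, RootExamples.conj coeHom_injective isX_X0 g⟩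
  · rintro ⟨v, φ, hA⟩
    obtain ⟨g, hg1, hg2⟩ := exists_std hA.vne hA.φne hA.inc
    refine ⟨g, hA.unique coeHom_injective ?_⟩
    have h := RootExamples.conj coeHom_injective (isX_X0 (k := k) (n := n)) g
    have e : (Pi.single 1 1 : V) ᵥ* coeHom g⁻¹ = φ := by
      rw [← hg2, vecMul_vecMul, ← map_mul, mul_inv_cancel, map_one, vecMul_one]
    rwa [hg1, e] at h

theorem exists_member {v φ : V} (hv : v ≠ 0) (hφ : φ ≠ 0) (h : φ ⬝ᵥ v = 0) :
    ∃ A : Subgroup SL, A ∈ S ∧ IsX (coeHom : SL →* _) A v φ := by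
  obtain ⟨g, hg1, hg2⟩ := exists_std hv hφ h
  have e : (Pi.single 1 1 : V) ᵥ* coeHom g⁻¹ = φ := by
    rw [← hg2, vecMul_vecMul, ← map_mul, mul_inv_cancel, map_one, vecMul_one]
  have hX := RootExamples.conj coeHom_injective (isX_X0 (k := k) (n := n)) g
  rw [hg1, e] at hX
  exact ⟨_, ⟨g, rfl⟩, hX⟩

end Cfsg.Agent.RootExamples.Linear
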