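import Mathlib
import Cfsg.Prelude.Def_RootSubgroups
import Cfsg.Agent.Lib.RootExamples.Basic

/-!
Siegel transvection groups of singular lines of the hyperbolic quadratic space.
-/

set_option autoImplicit false
set_option linter.all false

namespace Cfsg.Agent.RootExamples.Siegel

open Matrix Cfsg
open scoped commutatorElement

variable {F : Type*} [Field F] {n : ℕ}

local notation "V" => Fin n ⊕ Fin n → F
local notation "MM" => Matrix (Fin n ⊕ Fin n) (Fin n ⊕ Fin n) F

/-- Exchange of the two halves of the coordinates. -/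
def sw (v : V) : V := fun i => v i.swap

/-- The polar form. -/
def Bf (u v : V) : F := sw u ⬝ᵥ v

theorem sw_add (u v : V) : sw (u + v) = sw u + sw v := rfl
theorem sw_sub (u v : V) : sw (u - v) = sw u - sw v := rfl
theorem sw_smul (c : F) (v : V) : sw (c • v) = c • sw v := rfl
theorem sw_neg (v : V) : sw (-v) = -sw v := rfl

theorem Bf_symm (u v : V) : Bf u v = Bf v u := by
  simp [Bf, sw, dotProduct, Fintype.sum_sum_type, mul_comm, add_comm]

theorem Bf_add_left (u v w : V) : Bf (u + v) w = Bf u w + Bf v w := by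
  rw [Bf, sw_add, add_dotProduct]; rfl
theorem Bf_add_right (u v w : V) : Bf u (v + w) = Bf u v + Bf u w := dotProduct_add _ _ _
theorem Bf_sub_left (u v w : V) : Bf (u - v) w = Bf u w - Bf v w := by
  rw [Bf, sw_sub, sub_dotProduct]; rfl
theorem Bf_sub_right (u v w : V) : Bf u (v - w) = Bf u v - Bf u w := dotProduct_sub _ _ _
theorem Bf_smul_left (c : F) (u v : V) : Bf (c • u) v = c * Bf u v := by
  rw [Bf, sw_smul, smul_dotProduct]; rfl
theorem Bf_smul_right (c : F) (u v : V) : Bf u (c • v) = c * Bf u v := dotProduct_smul _ _ _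
theorem Bf_neg_left (u v : V) : Bf (-u) v = -Bf u v := by
  rw [Bf, sw_neg, neg_dotProduct]; rfl
theorem Bf_neg_right (u v : V) : Bf u (-v) = -Bf u v := dotProduct_neg _ _
theorem Bf_zero_right (u : V) : Bf u 0 = 0 := dotProduct_zero _
theorem Bf_zero_left (u : V) : Bf 0 u = 0 := by rw [Bf_symm, Bf_zero_right]

local notation "Q" => Cfsg.quadFormPlus n F

theorem Q_add (u v : V) : Q (u + v) = Q u + Q v + Bf u v := by
  simp [Cfsg.quadFormPlus, Bf, sw, dotProduct, Fintype.sum_sum_type, ← Finset.sum_add_distrib]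
  exact Finset.sum_congr rfl fun i _ => by ring

theorem Bf_polar (u v : V) : Q (v + u) - Q v - Q u = Bf u v := by
  rw [Q_add, Bf_symm v u]; ring

theorem Q_smul (c : F) (u : V) : Q (c • u) = c * c * Q u := by
  simp [Cfsg.quadFormPlus, Finset.mul_sum]
  exact Finset.sum_congr rfl fun i _ => by ring

theorem Bf_self (u : V) : Bf u u = 2 * Q u := by
  have h := Q_add u u
  rw [← two_smul F u, Q_smul] at h
  linear_combination -h

theorem Bf_self_zero {u : V} (h : Q u = 0) : Bf u u = 0 := by rw [Bf_self, h, mul_zero]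

theorem Q_zero : Q (0 : V) = 0 := by simp [Cfsg.quadFormPlus]

/-- A basis of a singular line. -/
structure Line (p r : V) : Prop where
  ind : ∀ a b : F, a • p + b • r = 0 → a = 0 ∧ b = 0
  qp : Q p = 0
  qr : Q r = 0
  orth : Bf p r = 0

theorem Line.symm {p r : V} (h : Line p r) : Line r p :=
  ⟨fun a b e => (h.ind b a (by rw [add_comm]; exact e)).symm, h.qr, h.qp, by rw [Bf_symm]; exact h.orth⟩

theorem Line.orth' {p r : V} (h : Line p r) : Bf r p = 0 := h.symm.orth

theorem Line.change {p r : V} (h : Line p r) {a b c d : F} (hd : a * d - b * c ≠ 0) :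
    Line (a • p + b • r) (c • p + d • r) := by
  refine ⟨fun x y e => ?_, ?_, ?_, ?_⟩
  · have := h.ind (x * a + y * c) (x * b + y * d) (by rw [← e]; module)
    obtain ⟨h1, h2⟩ := this
    constructor
    · have : x * (a * d - b * c) = 0 := by linear_combination d * h1 - c * h2
      exact (mul_eq_zero.1 this).resolve_right hd
    · have : y * (a * d - b * c) = 0 := by linear_combination a * h2 - b * h1
      exact (mul_eq_zero.1 this).resolve_right hd
  · rw [Q_add, Q_smul, Q_smul, Bf_smul_left, Bf_smul_right, h.qp, h.qr, h.orth]; ring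
  · rw [Q_add, Q_smul, Q_smul, Bf_smul_left, Bf_smul_right, h.qp, h.qr, h.orth]; ring
  · simp only [Bf_add_left, Bf_add_right, Bf_smul_left, Bf_smul_right, Bf_self_zero h.qp,
      Bf_self_zero h.qr, h.orth, h.orth']
    ring

/-! ### The transvections -/

/-- The nilpotent part. -/
def Nm (p r : V) : MM := vecMulVec p (sw r) - vecMulVec r (sw p)

/-- The Siegel transvection. -/
def E (p r : V) (c : F) : MM := 1 + c • Nm p r

theorem Nm_mulVec (p r x : V) : Nm p r *ᵥ x = Bf r x • p - Bf p x • r := by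
  rw [Nm, sub_mulVec, vecMulVec_mulVec, vecMulVec_mulVec, op_smul_eq_smul, op_smul_eq_smul]; rfl

theorem E_mulVec (p r x : V) (c : F) :
    E p r c *ᵥ x = x + c • (Bf r x • p - Bf p x • r) := by
  rw [E, add_mulVec, one_mulVec, smul_mulVec, Nm_mulVec]

theorem Nm_change (p r : V) (a b c d : F) :
    Nm (a • p + b • r) (c • p + d • r) = (a * d - b * c) • Nm p r := by
  ext i j
  simp [Nm, vecMulVec_apply, sw]
  ring

theorem Q_E {p r : V} (h : Line p r) (c : F) (x : V) : Q (E p r c *ᵥ x) = Q x := by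
  rw [E_mulVec, Q_add, Q_smul, sub_eq_add_neg, Q_add, ← neg_smul, Q_smul, Q_smul, h.qp, h.qr]
  simp only [Bf_smul_left, Bf_smul_right, Bf_add_right, h.orth, Bf_symm x p, Bf_symm x r]
  ring

theorem Nm_sq {p r : V} (h : Line p r) : Nm p r * Nm p r = 0 := by
  refine Matrix.ext_iff_mulVec.2 fun x => ?_
  rw [← mulVec_mulVec, Nm_mulVec, Nm_mulVec, zero_mulVec]
  simp [Bf_sub_right, Bf_smul_right, Bf_self_zero h.qp, Bf_self_zero h.qr, h.orth, h.orth']

theorem E_mul {p r : V} (h : Line p r) (c d : F) : E p r c * E p r d = E p r (c + d) := by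
  simp only [E, add_mul, mul_add, one_mul, mul_one, smul_mul_assoc, mul_smul_comm, Nm_sq h,
    smul_zero, add_zero, add_smul]
  abel

theorem E_zero (p r : V) : E p r (0 : F) = 1 := by simp [E]

theorem E_neg_mul {p r : V} (h : Line p r) (c : F) : E p r (-c) * E p r c = 1 := by
  rw [E_mul h, neg_add_cancel, E_zero]

theorem E_mul_neg {p r : V} (h : Line p r) (c : F) : E p r c * E p r (-c) = 1 := by
  rw [E_mul h, add_neg_cancel, E_zero]

/-- Simultaneous equations for the polar form. -/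
theorem exists_values {k : ℕ} (v : Fin k → V) (hv : LinearIndependent F v) (t : Fin k → F) :
    ∃ x : V, ∀ i, Bf (v i) x = t i := by
  let L : V →ₗ[F] (Fin k → F) :=
    { toFun := fun x i => Bf (v i) x
      map_add' := fun x y => funext fun i => Bf_add_right _ _ _
      map_smul' := fun c x => funext fun i => Bf_smul_right _ _ _ }
  suffices h : LinearMap.range L = ⊤ by
    obtain ⟨x, hx⟩ := LinearMap.range_eq_top.1 h t
    exact ⟨x, fun i => congrFun hx i⟩
  by_contra hne
  obtain ⟨w, hw⟩ : ∃ w, w ∉ LinearMap.range L := by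
    by_contra hall
    push Not at hall
    exact hne (eq_top_iff.2 fun x _ => hall x)
  obtain ⟨ψ, hψw, hψ⟩ := Submodule.exists_dual_map_eq_bot_of_notMem hw inferInstance
  set c : Fin k → F := fun i => ψ (Pi.single i 1) with hc
  have hψc : ∀ u, ψ u = ∑ i, u i * c i := fun u => by
    conv_lhs => rw [pi_eq_sum_univ' u]
    simp [hc]
  have h0 : ∑ i, c i • v i = 0 := by
    have hz : ∀ x, sw (∑ i, c i • v i) ⬝ᵥ x = 0 := fun x => by
      have h1 : ψ (L x) = 0 := by
        have : ψ (L x) ∈ (LinearMap.range L).map ψ := Submodule.mem_map_of_mem ⟨x, rfl⟩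
        rwa [hψ, Submodule.mem_bot] at this
      rw [hψc] at h1
      have e : sw (∑ i, c i • v i) = ∑ i, c i • sw (v i) := by
        funext j; simp [sw, Finset.sum_apply]
      rw [e, sum_dotProduct, ← h1]
      exact Finset.sum_congr rfl fun i _ => by rw [smul_dotProduct, smul_eq_mul, mul_comm]; rfl
    funext j
    have := hz (Pi.single j.swap 1)
    simpa [sw] using this
  have := Fintype.linearIndependent_iff.1 hv c h0
  exact hψw (by rw [hψc]; simp [this])

theorem Line.li {p r : V} (h : Line p r) : LinearIndependent F ![p, r] := by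
  rw [LinearIndependent.pair_iff]; exact h.ind

theorem E_inj {p r : V} (h : Line p r) {c d : F} (e : E p r c = E p r d) : c = d := by
  obtain ⟨x, hx⟩ := exists_values ![p, r] h.li ![0, 1]
  have h1 : Bf p x = 0 := hx 0
  have h2 : Bf r x = 1 := hx 1
  have h3 := congrArg (fun M : MM => M *ᵥ x) e
  simp only [E_mulVec, h1, h2, one_smul, zero_smul, sub_zero] at h3
  have h4 : (c - d) • p + (0 : F) • r = 0 := by
    rw [zero_smul, add_zero, sub_smul, add_left_cancel h3, sub_self]
  exact sub_eq_zero.1 (h.ind _ _ h4).1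

theorem three_li {p r s : V} (h : Line p r) (hs : ∀ a b : F, s ≠ a • p + b • r) :
    LinearIndependent F ![p, r, s] := by
  rw [Fintype.linearIndependent_iff]
  intro g hg
  simp [Fin.sum_univ_three] at hg
  have h2 : g 2 = 0 := by
    by_contra hne
    refine hs (-(g 2)⁻¹ * g 0) (-(g 2)⁻¹ * g 1) ?_
    have e : g 2 • s = -(g 0 • p + g 1 • r) := eq_neg_of_add_eq_zero_right hg
    have e2 : s = (g 2)⁻¹ • (g 2 • s) := by rw [smul_smul, inv_mul_cancel₀ hne, one_smul]
    rw [e2, e]; module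
  rw [h2, zero_smul, add_zero] at hg
  intro i
  fin_cases i
  · exact (h.ind _ _ hg).1
  · exact (h.ind _ _ hg).2
  · exact h2

/-- The elements fixing the orthogonal complement of a line. -/
theorem eq_E_of_fix {p r : V} (h : Line p r) {M : MM} (hQ : ∀ v, Q (M *ᵥ v) = Q v)
    (hfix : ∀ v, Bf p v = 0 → Bf r v = 0 → M *ᵥ v = v) : ∃ c, M = E p r c := by
  obtain ⟨u, hu⟩ := exists_values ![p, r] h.li ![1, 0]
  obtain ⟨w, hw⟩ := exists_values ![p, r] h.li ![0, 1]
  have hu1 : Bf p u = 1 := hu 0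
  have hu2 : Bf r u = 0 := hu 1
  have hw1 : Bf p w = 0 := hw 0
  have hw2 : Bf r w = 1 := hw 1
  set a := M *ᵥ u - u with ha
  set b := M *ᵥ w - w with hb
  have hM : ∀ x, M *ᵥ x = x + Bf p x • a + Bf r x • b := fun x => by
    have h0 := hfix (x - Bf p x • u - Bf r x • w)
      (by simp [Bf_sub_right, Bf_smul_right, hu1, hw1])
      (by simp [Bf_sub_right, Bf_smul_right, hu2, hw2])
    rw [mulVec_sub, mulVec_sub, mulVec_smul, mulVec_smul] at h0
    rw [ha, hb]
    linear_combination (norm := module) h0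
  have key : ∀ x y, Bf (M *ᵥ x) (M *ᵥ y) = Bf x y := fun x y => by
    rw [← Bf_polar, ← mulVec_add, hQ, hQ, hQ, Bf_polar]
  have hperp : ∀ d : V, (∀ v, Bf p v = 0 → Bf r v = 0 → Bf v d = 0) → ∃ s t : F, d = s • p + t • r := by
    intro d hd
    by_contra hne
    push Not at hne
    obtain ⟨v, hv⟩ := exists_values ![p, r, d] (three_li h hne) ![0, 0, 1]
    have h1 := hd v (hv 0) (hv 1)
    rw [Bf_symm] at h1
    exact zero_ne_one (h1.symm.trans (hv 2))
  have hspan : ∀ x, ∃ s t : F, M *ᵥ x - x = s • p + t • r := fun x => hperp _ fun v h1 h2 => by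
    rw [Bf_sub_right]
    nth_rewrite 1 [← hfix v h1 h2]
    rw [key, sub_self]
  obtain ⟨a1, a2, ha'⟩ := hspan u
  obtain ⟨b1, b2, hb'⟩ := hspan w
  rw [← ha] at ha'
  rw [← hb] at hb'
  have hq : ∀ x, Bf x (Bf p x • a + Bf r x • b) = 0 := fun x => by
    have h1 := hQ x
    have hz : Q (Bf p x • a + Bf r x • b) = 0 := by
      rw [ha', hb', show Bf p x • (a1 • p + a2 • r) + Bf r x • (b1 • p + b2 • r) =
        (Bf p x * a1 + Bf r x * b1) • p + (Bf p x * a2 + Bf r x * b2) • r by module,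
        Q_add, Q_smul, Q_smul, Bf_smul_left, Bf_smul_right, h.qp, h.qr, h.orth]
      ring
    rw [hM, add_assoc, Q_add, hz] at h1
    linear_combination h1
  have q1 := hq u
  have q2 := hq w
  have q3 := hq (u + w)
  simp only [ha', hb', Bf_add_right, Bf_add_left, Bf_smul_right, hu1, hu2, hw1, hw2,
    Bf_symm u p, Bf_symm u r, Bf_symm w p, Bf_symm w r] at q1 q2 q3
  have ea1 : a1 = 0 := by linear_combination q1
  have eb2 : b2 = 0 := by linear_combination q2
  have eab : a2 = -b1 := by linear_combination q3 - q1 - q2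
  refine ⟨b1, Matrix.ext_iff_mulVec.2 fun x => ?_⟩
  rw [hM, E_mulVec, ha', hb', ea1, eb2, eab]
  module

/-! ### Root groups in a represented group -/

variable {G : Type*} [Group G]

/-- `A` is the root group of the line `⟨p, r⟩`. -/
structure IsZ (f : G →* MM) (A : Subgroup G) (p r : V) : Prop where
  line : Line p r
  mem : ∀ g, g ∈ A ↔ ∃ c, f g = E p r c
  ex : ∀ c, ∃ g, f g = E p r c

/-- The root groups of all lines. -/
def S (f : G →* MM) : Set (Subgroup G) := {A | ∃ p r, IsZ f A p r}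

/-- A faithful isometric representation containing all the root elements. -/
structure Setting (f : G →* MM) : Prop where
  inj : Function.Injective f
  iso : ∀ g v, Q (f g *ᵥ v) = Q v
  has : ∀ p r : V, Line p r → ∃ A, IsZ f A p r

variable {f : G →* Matrix (Fin n ⊕ Fin n) (Fin n ⊕ Fin n) F}

theorem IsZ.change {A : Subgroup G} {p r : V} (hA : IsZ f A p r) {a b c d : F}
    (hd : a * d - b * c ≠ 0) : IsZ f A (a • p + b • r) (c • p + d • r) := by
  have e : ∀ x, E (a • p + b • r) (c • p + d • r) x = E p r (x * (a * d - b * c)) := fun x => by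
    rw [E, E, Nm_change, smul_smul]
  refine ⟨hA.line.change hd, fun g => ?_, fun x => ?_⟩
  · rw [hA.mem]
    constructor
    · rintro ⟨x, hx⟩
      exact ⟨x / (a * d - b * c), by rw [e, div_mul_cancel₀ x hd, hx]⟩
    · rintro ⟨x, hx⟩; exact ⟨_, hx.trans (e x)⟩
  · obtain ⟨g, hg⟩ := hA.ex (x * (a * d - b * c))
    exact ⟨g, hg.trans (e x).symm⟩

theorem IsZ.swap {A : Subgroup G} {p r : V} (hA : IsZ f A p r) : IsZ f A r p := by
  have := hA.change (a := 0) (b := 1) (c := 1) (d := 0) (by simp)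
  simpa using this

theorem IsZ.unique (hs : Setting f) {A B : Subgroup G} {p r : V} (hA : IsZ f A p r)
    (hB : IsZ f B p r) : A = B := by
  ext g; rw [hA.mem, hB.mem]

theorem IsZ.comm (hs : Setting f) {A : Subgroup G} {p r : V} (hA : IsZ f A p r) :
    IsMulCommutative A := by
  refine ⟨⟨fun a b => Subtype.ext (hs.inj ?_)⟩⟩
  obtain ⟨c, hc⟩ := (hA.mem a).1 a.2
  obtain ⟨d, hd⟩ := (hA.mem b).1 b.2
  show f ((a : G) * b) = f ((b : G) * a)
  rw [map_mul, map_mul, hc, hd, E_mul hA.line, E_mul hA.line, add_comm]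

theorem IsZ.f_inv {A : Subgroup G} {p r : V} (hA : IsZ f A p r) {g : G} {c : F}
    (hg : f g = E p r c) : f g⁻¹ = E p r (-c) := by
  calc f g⁻¹ = f g⁻¹ * (f g * E p r (-c)) := by rw [hg, E_mul_neg hA.line, mul_one]
    _ = E p r (-c) := by rw [← mul_assoc, ← map_mul, inv_mul_cancel, map_one, one_mul]

theorem IsZ.exists_ne (hs : Setting f) {A : Subgroup G} {p r : V} (hA : IsZ f A p r) :
    ∃ g ∈ A, g ≠ 1 := by
  obtain ⟨g, hg⟩ := hA.ex 1
  refine ⟨g, (hA.mem g).2 ⟨1, hg⟩, fun e => ?_⟩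
  rw [e, map_one, ← E_zero p r] at hg
  exact zero_ne_one (E_inj hA.line hg)

theorem IsZ.ne_bot (hs : Setting f) {A : Subgroup G} {p r : V} (hA : IsZ f A p r) : A ≠ ⊥ := by
  obtain ⟨g, hg, hg1⟩ := hA.exists_ne hs
  rintro rfl
  exact hg1 (Subgroup.mem_bot.1 hg)

theorem IsZ.conj (hs : Setting f) {A : Subgroup G} {p r : V} (hA : IsZ f A p r) (g : G) :
    IsZ f (conjBy A g) (f g *ᵥ p) (f g *ᵥ r) := by
  have h1 : f g⁻¹ * f g = 1 := by rw [← map_mul, inv_mul_cancel, map_one]
  have h2 : f g * f g⁻¹ = 1 := by rw [← map_mul, mul_inv_cancel, map_one]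
  have hB : ∀ x y, Bf (f g *ᵥ x) (f g *ᵥ y) = Bf x y := fun x y => by
    rw [← Bf_polar, ← mulVec_add, hs.iso, hs.iso, hs.iso, Bf_polar]
  have e : ∀ c, f g * E p r c * f g⁻¹ = E (f g *ᵥ p) (f g *ᵥ r) c := fun c =>
    Matrix.ext_iff_mulVec.2 fun x => by
      have hx : f g *ᵥ (f g⁻¹ *ᵥ x) = x := by rw [mulVec_mulVec, h2, one_mulVec]
      rw [← mulVec_mulVec, ← mulVec_mulVec, E_mulVec, E_mulVec, mulVec_add, hx, mulVec_smul,
        mulVec_sub, mulVec_smul, mulVec_smul, ← hB r, ← hB p, hx]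
  refine ⟨⟨fun a b hab => hA.line.ind a b ?_, ?_, ?_, ?_⟩, fun x => ?_, fun c => ?_⟩
  · have := congrArg (f g⁻¹ *ᵥ ·) hab
    simpa [mulVec_add, mulVec_smul, mulVec_mulVec, h1] using this
  · rw [hs.iso, hA.line.qp]
  · rw [hs.iso, hA.line.qr]
  · rw [hB, hA.line.orth]
  · rw [ThreeTransp.RankOne.mem_conjBy, hA.mem]
    refine exists_congr fun c => ⟨fun h => ?_, fun h => ?_⟩
    · rw [← e, ← h, ← map_mul, ← map_mul]
      congr 1; group
    · rw [map_mul, map_mul, h, ← e, ← mul_assoc, ← mul_assoc, h1, one_mul, mul_assoc, h1, mul_one]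
  · obtain ⟨x, hx⟩ := hA.ex c
    exact ⟨g * x * g⁻¹, by rw [map_mul, map_mul, hx, e]⟩

theorem comm_case (hs : Setting f) {A B : Subgroup G} {p r p' r' : V} (hA : IsZ f A p r)
    (hB : IsZ f B p' r') (h11 : Bf p p' = 0) (h12 : Bf p r' = 0) (h21 : Bf r p' = 0)
    (h22 : Bf r r' = 0) : ⁅A, B⁆ = ⊥ := by
  rw [Subgroup.commutator_eq_bot_iff_le_centralizer]
  intro a ha b hb
  obtain ⟨s, hs'⟩ := (hA.mem a).1 ha
  obtain ⟨t, ht⟩ := (hB.mem b).1 hb
  refine hs.inj ?_
  rw [map_mul, map_mul, hs', ht]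
  refine Matrix.ext_iff_mulVec.2 fun x => ?_
  simp only [← mulVec_mulVec, E_mulVec, Bf_add_right, Bf_sub_right, Bf_smul_right, Bf_symm r' r,
    Bf_symm r' p, Bf_symm p' r, Bf_symm p' p, h11, h12, h21, h22]
  module

theorem E_comm {p r p' r' : V} (h : Line p r) (h' : Line p' r') (h11 : Bf p p' = 1)
    (h12 : Bf p r' = 0) (h21 : Bf r p' = 0) (h22 : Bf r r' = 0) (s t : F) :
    E p r s * E p' r' t * E p r (-s) * E p' r' (-t) = E r' r (s * t) := by
  refine Matrix.ext_iff_mulVec.2 fun x => ?_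
  simp only [← mulVec_mulVec, E_mulVec, Bf_add_right, Bf_sub_right, Bf_smul_right,
    Bf_symm r' r, Bf_symm r' p, Bf_symm p' r, Bf_symm p' p, h11, h12, h21, h22,
    Bf_self_zero h.qp, Bf_self_zero h.qr, Bf_self_zero h'.qp, Bf_self_zero h'.qr,
    h.orth, h.orth', h'.orth, h'.orth']
  module

/-- A rank one pair is never in the commutator case. -/
theorem not_rankOne_of_commutatorCase {T : Set (Subgroup G)} {A B : Subgroup G}
    [IsMulCommutative B] (hne : ⁅A, B⁆ ≠ ⊥) (hc : RootCommutatorCase T A B) :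
    ¬ IsRankOnePair A B := by
  intro hp
  obtain ⟨a, ha, ha1⟩ := ThreeTransp.RankOne.exists_ne_one hp
  obtain ⟨b, hb, -, e⟩ := hp.cond_left a ha ha1
  have hab : b⁻¹ * a * b ∈ conjBy B a⁻¹ := e ▸ ⟨a, ha, by simp⟩
  rw [ThreeTransp.RankOne.mem_conjBy, inv_inv] at hab
  have hcc : b⁻¹ * a * b * a⁻¹ ∈ ⁅A, B⁆ := by
    have h := Subgroup.inv_mem _ (Subgroup.commutator_mem_commutator ha (inv_mem hb))
    rw [commutatorElement_def] at h
    simpa [mul_assoc] using h
  set z := b⁻¹ * a * b * a⁻¹ with hz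
  have hy : a * (b⁻¹ * a * b) * a⁻¹ = z * a := by
    calc a * (b⁻¹ * a * b) * a⁻¹ = a * z := by rw [hz]; group
      _ = z * a := (hc.2.1 z hcc a (Subgroup.mem_sup_left ha)).symm
  rw [hy] at hab
  have hcl := hc.2.2.1 a ha ha1
  apply hne
  rw [← hcl, eq_bot_iff, Subgroup.closure_le]
  rintro _ ⟨d, hd, rfl⟩
  have h1 : d * (z * a) = (z * a) * d := setLike_mul_comm hd hab
  have h2 : z * d = d * z := hc.2.1 z hcc d (Subgroup.mem_sup_right hd)
  have h3 : d * a = a * d := mul_left_cancel (a := z) <| by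
    rw [← mul_assoc z d a, h2, mul_assoc d z a, h1, mul_assoc z a d]
  show a * d * a⁻¹ * d⁻¹ ∈ ((⊥ : Subgroup G) : Set G)
  rw [← h3]
  simp

/-- The commutator case in normal form. -/
theorem comm2_case (hs : Setting f) {A B : Subgroup G} {p r p' r' : V} (hA : IsZ f A p r)
    (hB : IsZ f B p' r') (h11 : Bf p p' = 1)
    (h12 : Bf p r' = 0) (h21 : Bf r p' = 0) (h22 : Bf r r' = 0) (hl : Line r' r) :
    RootCommutatorCase (S f) A B ∧ ¬ IsRankOnePair A B := by
  obtain ⟨C, hC⟩ := hs.has r' r hl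
  have hcomm : ∀ a ∈ A, ∀ b ∈ B, ∀ s t, f a = E p r s → f b = E p' r' t →
      f (a * b * a⁻¹ * b⁻¹) = E r' r (s * t) := fun a ha b hb s t h1 h2 => by
    rw [map_mul, map_mul, map_mul, h1, h2, hA.f_inv h1, hB.f_inv h2]
    exact E_comm hA.line hB.line h11 h12 h21 h22 s t
  have hmem : ∀ a ∈ A, ∀ b ∈ B, a * b * a⁻¹ * b⁻¹ ∈ C := fun a ha b hb => by
    obtain ⟨s, hs'⟩ := (hA.mem a).1 ha
    obtain ⟨t, ht⟩ := (hB.mem b).1 hb
    exact (hC.mem _).2 ⟨_, hcomm a ha b hb s t hs' ht⟩
  have coeff : ∀ {D : Subgroup G} {u w : V} (g : G), g ≠ 1 → ∀ c : F, f g = E u w c → c ≠ 0 := by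
    rintro D u w g hg c hc rfl
    exact hg (hs.inj (by rw [hc, E_zero, map_one]))
  have clA : ∀ a ∈ A, a ≠ 1 →
      Subgroup.closure ((fun b : G => a * b * a⁻¹ * b⁻¹) '' (B : Set G)) = C := fun a ha ha1 => by
    refine le_antisymm ((Subgroup.closure_le _).2 ?_) fun c hc => ?_
    · rintro _ ⟨b, hb, rfl⟩; exact hmem a ha b hb
    · obtain ⟨s, hs'⟩ := (hA.mem a).1 ha
      obtain ⟨d, hd⟩ := (hC.mem c).1 hc
      obtain ⟨b, hb⟩ := hB.ex (d / s)
      have hbB := (hB.mem b).2 ⟨_, hb⟩
      refine Subgroup.subset_closure ⟨b, hbB, hs.inj ?_⟩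
      rw [hcomm a ha b hbB s _ hs' hb, hd, mul_div_cancel₀ d (coeff (D := A) a ha1 s hs')]
  have clB : ∀ b ∈ B, b ≠ 1 →
      Subgroup.closure ((fun a : G => a * b * a⁻¹ * b⁻¹) '' (A : Set G)) = C := fun b hb hb1 => by
    refine le_antisymm ((Subgroup.closure_le _).2 ?_) fun c hc => ?_
    · rintro _ ⟨a, ha, rfl⟩; exact hmem a ha b hb
    · obtain ⟨t, ht⟩ := (hB.mem b).1 hb
      obtain ⟨d, hd⟩ := (hC.mem c).1 hc
      obtain ⟨a, ha⟩ := hA.ex (d / t)
      have haA := (hA.mem a).2 ⟨_, ha⟩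
      refine Subgroup.subset_closure ⟨a, haA, hs.inj ?_⟩
      rw [hcomm a haA b hb _ t ha ht, hd, div_mul_cancel₀ d (coeff (D := B) b hb1 t ht)]
  have hAB : ⁅A, B⁆ = C := by
    refine le_antisymm (Subgroup.commutator_le.2 fun a ha b hb => ?_) ?_
    · rw [commutatorElement_def]; exact hmem a ha b hb
    · obtain ⟨a, ha, ha1⟩ := hA.exists_ne hs
      rw [← clA a ha ha1, Subgroup.closure_le]
      rintro _ ⟨b, hb, rfl⟩
      exact Subgroup.commutator_mem_commutator ha hb
  have hcent : ∀ c ∈ C, ∀ x ∈ A ⊔ B, c * x = x * c := fun c hc x hx => by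
    have hle : A ⊔ B ≤ Subgroup.centralizer {c} := by
      have e1 := comm_case hs hC hA (by rw [Bf_symm]; exact h12) (by rw [Bf_symm]; exact h22)
        hA.line.orth' (Bf_self_zero hA.line.qr)
      have e2 := comm_case hs hC hB hB.line.orth' (Bf_self_zero hB.line.qr) h21 h22
      rw [Subgroup.commutator_eq_bot_iff_le_centralizer] at e1 e2
      refine sup_le (fun y hy => ?_) (fun y hy => ?_) <;> rw [Subgroup.mem_centralizer_singleton_iff]
      · exact e1 hc y hy
      · exact e2 hc y hy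
    exact (Subgroup.mem_centralizer_singleton_iff.1 (hle hx)).symm
  have hcase : RootCommutatorCase (S f) A B := by
    rw [RootCommutatorCase, hAB]
    exact ⟨⟨_, _, hC⟩, hcent, clA, clB⟩
  have := hB.comm hs
  exact ⟨hcase, not_rankOne_of_commutatorCase (hAB ▸ hC.ne_bot hs) hcase⟩

theorem emb_apply {ι : Type*} [Fintype ι] [DecidableEq ι] (M : Matrix ι (Fin 2) F)
    (N : Matrix (Fin 2) ι F) (h : N * M = 1) (g : SpecialLinearGroup (Fin 2) F) :
    emb M N h g = 1 + M * ((g : Matrix (Fin 2) (Fin 2) F) - 1) * N := rfl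

theorem emb_sum {ι : Type*} [Fintype ι] [DecidableEq ι] (M₁ M₂ : Matrix ι (Fin 2) F)
    (N₁ N₂ : Matrix (Fin 2) ι F) (h11 : N₁ * M₁ = 1) (h22 : N₂ * M₂ = 1) (h12 : N₁ * M₂ = 0)
    (h21 : N₂ * M₁ = 0) :
    ∃ Φ : SpecialLinearGroup (Fin 2) F →* Matrix ι ι F, Function.Injective Φ ∧
      ∀ g, Φ g = 1 + M₁ * ((g : Matrix (Fin 2) (Fin 2) F) - 1) * N₁
        + M₂ * ((g : Matrix (Fin 2) (Fin 2) F) - 1) * N₂ := by
  have hz : ∀ X Y : Matrix (Fin 2) (Fin 2) F, M₁ * X * N₁ * (M₂ * Y * N₂) = 0 := fun X Y => by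
    calc M₁ * X * N₁ * (M₂ * Y * N₂) = M₁ * X * (N₁ * M₂) * Y * N₂ := by simp only [Matrix.mul_assoc]
      _ = 0 := by rw [h12]; simp
  have hz' : ∀ X Y : Matrix (Fin 2) (Fin 2) F, M₂ * X * N₂ * (M₁ * Y * N₁) = 0 := fun X Y => by
    calc M₂ * X * N₂ * (M₁ * Y * N₁) = M₂ * X * (N₂ * M₁) * Y * N₁ := by simp only [Matrix.mul_assoc]
      _ = 0 := by rw [h21]; simp
  have hval : ∀ g, emb M₁ N₁ h11 g * emb M₂ N₂ h22 g = 1 + M₁ * ((g : Matrix (Fin 2) (Fin 2) F) - 1) * N₁
        + M₂ * ((g : Matrix (Fin 2) (Fin 2) F) - 1) * N₂ := fun g => by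
    rw [emb_apply, emb_apply, mul_add, mul_one, add_mul, one_mul, hz, add_zero]
  refine ⟨{ toFun := fun g => emb M₁ N₁ h11 g * emb M₂ N₂ h22 g
            map_one' := by rw [map_one, map_one, one_mul]
            map_mul' := fun g g' => ?_ }, ?_, hval⟩
  · have hc : emb M₂ N₂ h22 g * emb M₁ N₁ h11 g' = emb M₁ N₁ h11 g' * emb M₂ N₂ h22 g := by
      rw [emb_apply, emb_apply]
      simp only [mul_add, add_mul, mul_one, one_mul, hz, hz', add_zero]
      abel
    rw [map_mul, map_mul]
    simp only [mul_assoc]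
    congr 1
    simp only [← mul_assoc]
    rw [hc]
  · intro g g' e
    simp only [MonoidHom.coe_mk, OneHom.coe_mk, hval] at e
    have key : ∀ X : Matrix (Fin 2) (Fin 2) F, N₁ * (1 + M₁ * X * N₁ + M₂ * X * N₂) * M₁ = 1 + X := fun X => by
      simp only [Matrix.mul_add, Matrix.add_mul, Matrix.mul_one, Matrix.mul_assoc, h11, h21, Matrix.mul_zero,
        add_zero]
      rw [← Matrix.mul_assoc N₁ M₁, h11, Matrix.one_mul]
    have := congrArg (fun Z => N₁ * Z * M₁) e
    simp only [key, add_sub_cancel] at this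
    exact Subtype.ext this

theorem el_part (x y : V) (u w : V) {i j : Fin 2} (h : i ≠ j) (c : F) :
    (Matrix.of fun a b => ![x a, y a] b) * (((el h c : SpecialLinearGroup (Fin 2) F) : Matrix (Fin 2) (Fin 2) F) - 1)
      * (Matrix.of ![u, w]) = c • vecMulVec (![x, y] i) (![u, w] j) := by
  rw [el_coe, add_sub_cancel_left]
  ext a b
  fin_cases i <;> fin_cases j <;>
    simp_all [Matrix.mul_apply, Fin.sum_univ_two, Matrix.single_apply, vecMulVec_apply] <;> ring

theorem pair_mul (x y : V) (u w : V) : (Matrix.of ![sw u, sw w]) * (Matrix.of fun a b => ![x a, y a] b) =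
    !![Bf u x, Bf u y; Bf w x, Bf w y] := by
  ext i j
  fin_cases i <;> fin_cases j <;> rfl

/-- The rank one case in normal form. -/
theorem rankOne_case (hs : Setting f) {A B : Subgroup G} {p r p' r' : V} (hA : IsZ f A p r)
    (hB : IsZ f B p' r') (h11 : Bf p p' = 1) (h12 : Bf p r' = 0) (h21 : Bf r p' = 0)
    (h22 : Bf r r' = 1) : IsRankOnePair A B ∧ IsPSL2PairOver F A B := by
  let M₁ : Matrix (Fin n ⊕ Fin n) (Fin 2) F := Matrix.of fun a b => ![p a, r' a] b
  let M₂ : Matrix (Fin n ⊕ Fin n) (Fin 2) F := Matrix.of fun a b => ![r a, (-p') a] b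
  let N₁ : Matrix (Fin 2) (Fin n ⊕ Fin n) F := Matrix.of ![sw p', sw r]
  let N₂ : Matrix (Fin 2) (Fin n ⊕ Fin n) F := Matrix.of ![sw r', sw (-p)]
  have one2 : (!![1, 0; 0, 1] : Matrix (Fin 2) (Fin 2) F) = 1 := Matrix.one_fin_two.symm
  have zero2 : (!![0, 0; 0, 0] : Matrix (Fin 2) (Fin 2) F) = 0 := by
    ext i j; fin_cases i <;> fin_cases j <;> rfl
  have a1 : N₁ * M₁ = 1 := by
    rw [pair_mul, Bf_symm p' p, h11, hB.line.orth, hA.line.orth', h22, one2]
  have a2 : N₂ * M₂ = 1 := by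
    rw [pair_mul, Bf_symm r' r, h22, Bf_neg_left, Bf_neg_right, Bf_neg_right, hB.line.orth',
      Bf_neg_left, h11, hA.line.orth, neg_zero, neg_neg, one2]
  have a3 : N₁ * M₂ = 0 := by
    rw [pair_mul, Bf_symm p' r, h21, Bf_neg_right, Bf_neg_right, Bf_self_zero hB.line.qp,
      Bf_self_zero hA.line.qr, h21, neg_zero, zero2]
  have a4 : N₂ * M₁ = 0 := by
    rw [pair_mul, Bf_symm r' p, h12, Bf_self_zero hB.line.qr, Bf_neg_left, Bf_neg_left,
      Bf_self_zero hA.line.qp, h12, neg_zero, zero2]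
  obtain ⟨Φ, hΦ, hval⟩ := emb_sum M₁ M₂ N₁ N₂ a1 a2 a3 a4
  have hu : ∀ c, Φ (el (zero_ne_one (α := Fin 2)) c) = E p r c := fun c => by
    rw [hval, el_part, el_part, E, Nm]
    show 1 + c • vecMulVec p (sw r) + c • vecMulVec r (sw (-p)) = _
    rw [sw_neg, vecMulVec_neg, smul_neg, smul_sub]; abel
  have hl : ∀ c, Φ (el (one_ne_zero (α := Fin 2)) c) = E p' r' (-c) := fun c => by
    rw [hval, el_part, el_part, E, Nm]
    show 1 + c • vecMulVec r' (sw p') + c • vecMulVec (-p') (sw r') = _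
    rw [neg_vecMulVec, smul_neg, neg_smul, smul_sub]; abel
  have hex : ∀ g, ∃ x, f x = Φ g := by
    intro g
    refine Matrix.SL2.transvection_induction (fun g => ∃ x, f x = Φ g) (fun i j h c => ?_)
      (fun a b ha hb => ?_) g
    · fin_cases i <;> fin_cases j
      · exact absurd rfl h
      · obtain ⟨x, hx⟩ := hA.ex c; exact ⟨x, hx.trans (hu c).symm⟩
      · obtain ⟨x, hx⟩ := hB.ex (-c); exact ⟨x, hx.trans (hl c).symm⟩
      · exact absurd rfl h
    · obtain ⟨x, hx⟩ := ha
      obtain ⟨y, hy⟩ := hb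
      exact ⟨x * y, by rw [map_mul, map_mul, hx, hy]⟩
  choose x hx using hex
  let Ψ : SpecialLinearGroup (Fin 2) F →* G :=
    MonoidHom.mk' x fun a b => hs.inj (by rw [map_mul, hx, hx, hx, map_mul])
  have hΨ : Function.Injective Ψ := fun a b e => hΦ (by rw [← hx, ← hx]; exact congrArg f e)
  have mA : ∀ g, g ∈ A ↔ ∃ c, g = Ψ (el (zero_ne_one (α := Fin 2)) c) := fun g => by
    rw [hA.mem]
    exact exists_congr fun c => ⟨fun h => hs.inj (h.trans ((hx _).trans (hu c)).symm),
      fun h => h ▸ (hx _).trans (hu c)⟩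
  have mB : ∀ g, g ∈ B ↔ ∃ c, g = Ψ (el (one_ne_zero (α := Fin 2)) c) := fun g => by
    rw [hB.mem]
    constructor
    · rintro ⟨c, hc⟩
      exact ⟨-c, hs.inj (hc.trans (by rw [show f (Ψ _) = _ from (hx _).trans (hl _), neg_neg]))⟩
    · rintro ⟨c, rfl⟩
      exact ⟨-c, (hx _).trans (hl c)⟩
  have := hA.comm hs
  have := hB.comm hs
  exact rankOne_of_hom hΨ mA mB

/-- The three possibilities for a pair of root groups. -/
theorem cases (hs : Setting f) {A B : Subgroup G} (hA : A ∈ S f) (hB : B ∈ S f) :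
    ⁅A, B⁆ = ⊥ ∨ (IsRankOnePair A B ∧ IsPSL2PairOver F A B) ∨
      (RootCommutatorCase (S f) A B ∧ ¬ IsRankOnePair A B) := by
  obtain ⟨p, r, hA⟩ := hA
  obtain ⟨p', r', hB⟩ := hB
  by_cases hdet : Bf p p' * Bf r r' - Bf p r' * Bf r p' = 0
  · -- degenerate
    have main : ∀ p r p' r', IsZ f A p r → IsZ f B p' r' → Bf p p' ≠ 0 →
        Bf p p' * Bf r r' - Bf p r' * Bf r p' = 0 →
        ⁅A, B⁆ = ⊥ ∨ (IsRankOnePair A B ∧ IsPSL2PairOver F A B) ∨
          (RootCommutatorCase (S f) A B ∧ ¬ IsRankOnePair A B) := by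
      intro p r p' r' hA hB hne hdet
      have hA' := hA.change (a := 1) (b := 0) (c := -(Bf r p' / Bf p p')) (d := 1) (by simp)
      have hB' := hB.change (a := (Bf p p')⁻¹) (b := 0) (c := -(Bf p r' / Bf p p')) (d := 1)
        (by simp [hne])
      simp only [one_smul, zero_smul, add_zero] at hA' hB'
      set r0 := -(Bf r p' / Bf p p') • p + r with hr0
      set r0' := -(Bf p r' / Bf p p') • p' + r' with hr0'
      have k11 : Bf p ((Bf p p')⁻¹ • p') = 1 := by rw [Bf_smul_right, inv_mul_cancel₀ hne]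
      have k12 : Bf p r0' = 0 := by
        rw [hr0', Bf_add_right, Bf_smul_right]; field_simp; ring
      have k21 : Bf r0 ((Bf p p')⁻¹ • p') = 0 := by
        rw [hr0, Bf_smul_right, Bf_add_left, Bf_smul_left]; field_simp; ring
      have k22 : Bf r0 r0' = 0 := by
        rw [hr0, hr0']
        simp only [Bf_add_left, Bf_add_right, Bf_smul_left, Bf_smul_right]
        field_simp
        linear_combination hdet
      by_cases hl : ∃ l : F, r0' = l • r0
      · obtain ⟨l, hl⟩ := hl
        refine Or.inl ?_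
        have hl0 : l ≠ 0 := by
          rintro rfl
          rw [zero_smul] at hl
          exact one_ne_zero (hB'.line.ind 0 1 (by rw [hl, zero_smul, smul_zero, add_zero])).2
        -- meeting lines
        rw [Subgroup.commutator_eq_bot_iff_le_centralizer]
        intro a ha b hb
        obtain ⟨s, hs'⟩ := (hA'.mem a).1 ha
        obtain ⟨t, ht⟩ := (hB'.mem b).1 hb
        refine hs.inj ?_
        rw [map_mul, map_mul, hs', ht]
        have s1 := Bf_self_zero hA'.line.qr
        have o1 := hA'.line.orth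
        rw [hl] at k12 k22 ⊢
        rw [Bf_smul_right] at k12
        refine Matrix.ext_iff_mulVec.2 fun x => ?_
        simp only [← mulVec_mulVec, E_mulVec, Bf_add_right, Bf_sub_right, Bf_smul_right,
          Bf_smul_left, Bf_symm r0 p, Bf_symm ((Bf p p')⁻¹ • p') r0, o1, s1, k21, k11,
          Bf_symm p' p, inv_mul_cancel₀ hne]
        module
      · push Not at hl
        refine Or.inr (Or.inr (comm2_case hs hA' hB' k11 k12 k21 k22 ⟨fun a b e => ?_, hB'.line.qr,
          hA'.line.qr, by rw [Bf_symm]; exact k22⟩))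
        by_cases ha : a = 0
        · subst ha
          rw [zero_smul, zero_add] at e
          exact ⟨rfl, (hA'.line.ind 0 b (by rw [zero_smul, zero_add, e])).2⟩
        · exfalso
          refine hl (-(b / a)) ?_
          have e2 : a • r0' = -(b • r0) := eq_neg_of_add_eq_zero_left e
          rw [show r0' = a⁻¹ • (a • r0') by rw [smul_smul, inv_mul_cancel₀ ha, one_smul], e2,
            smul_neg, smul_smul, neg_smul, div_eq_inv_mul]
    by_cases h11 : Bf p p' = 0
    · by_cases h12 : Bf p r' = 0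
      · by_cases h21 : Bf r p' = 0
        · by_cases h22 : Bf r r' = 0
          · exact Or.inl (comm_case hs hA hB h11 h12 h21 h22)
          · exact main r p r' p' hA.swap hB.swap h22 (by linear_combination hdet)
        · exact main r p p' r' hA.swap hB h21 (by linear_combination -hdet)
      · exact main p r r' p' hA hB.swap h12 (by linear_combination -hdet)
    · exact main p r p' r' hA hB h11 hdet
  · set D := Bf p p' * Bf r r' - Bf p r' * Bf r p' with hD
    have hne : Bf r r' / D * (Bf p p' / D) - -(Bf r p' / D) * -(Bf p r' / D) ≠ 0 := by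
      have : Bf r r' / D * (Bf p p' / D) - -(Bf r p' / D) * -(Bf p r' / D) = D⁻¹ := by
        field_simp
        rw [hD]; ring
      rw [this]; exact inv_ne_zero hdet
    have hB' := hB.change (a := Bf r r' / D) (b := -(Bf r p' / D)) (c := -(Bf p r' / D))
      (d := Bf p p' / D) hne
    refine Or.inr (Or.inl (rankOne_case hs hA hB' ?_ ?_ ?_ ?_)) <;>
      simp only [Bf_add_right, Bf_smul_right] <;> field_simp <;> rw [hD] <;> ring

theorem rootSet (hs : Setting f) (hgen : (⨆ A ∈ S f, A) = ⊤) : IsKRootSubgroupSet F (S f) := by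
  refine ⟨⟨?_, ?_, hgen, ?_, fun A hA B hB => ?_⟩, fun A hA B hB h => ?_⟩
  · rintro A ⟨p, r, hA⟩; exact hA.comm hs
  · rintro A ⟨p, r, hA⟩; exact hA.ne_bot hs
  · rintro A ⟨p, r, hA⟩ g; exact ⟨_, _, hA.conj hs g⟩
  · rcases cases hs hA hB with h | h | h
    · exact Or.inl h
    · exact Or.inr (Or.inl h.1)
    · exact Or.inr (Or.inr h.1)
  · rcases cases hs hA hB with h' | h' | h'
    · exact absurd h' (ThreeTransp.RankOne.not_commute h)
    · exact h'.2
    · exact absurd h h'.2

/-! ### Connectedness -/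

/-- A totally singular plane through a line. -/
theorem exists_plane (hn : 3 ≤ n) {p r : V} (h : Line p r) :
    ∃ y : V, Q y = 0 ∧ Bf p y = 0 ∧ Bf r y = 0 ∧ ∀ a b : F, y ≠ a • p + b • r := by
  classical
  let j : (Fin n → F) →ₗ[F] V :=
    { toFun := fun a => Sum.elim 0 a
      map_add' := fun a b => funext fun i => by cases i <;> simp
      map_smul' := fun c a => funext fun i => by cases i <;> simp }
  have hj : ∀ a, Q (j a) = 0 := fun a => by simp [j, Cfsg.quadFormPlus]
  have hjB : ∀ a b, Bf (j a) (j b) = 0 := fun a b => by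
    simp [j, Bf, sw, dotProduct, Fintype.sum_sum_type]
  have hji : Function.Injective j := fun a b e => funext fun i => congrFun e (Sum.inr i)
  let l : (Fin 2 → F) →ₗ[F] V :=
    { toFun := fun c => c 0 • p + c 1 • r
      map_add' := fun a b => by simp only [Pi.add_apply, add_smul]; abel
      map_smul' := fun c a => by simp [smul_smul] }
  let φ : (Fin n → F) →ₗ[F] Module.Dual F (Fin 2 → F) :=
    LinearMap.mk₂ F (fun a c => Bf (l c) (j a))
      (fun a b c => by simp [Bf_add_right]) (fun x a c => by simp [Bf_smul_right])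
      (fun a b c => by simp [Bf_add_left]) (fun x a c => by simp [Bf_smul_left])
  by_contra hno
  push Not at hno
  let W : Submodule F (Fin 2 → F) := (LinearMap.range j).comap l
  have hker : ∀ a ∈ LinearMap.ker φ, ∃ c ∈ W, l c = j a := fun a ha => by
    have h0 : ∀ c, Bf (l c) (j a) = 0 := fun c => LinearMap.congr_fun (LinearMap.mem_ker.1 ha) c
    obtain ⟨x, y, hxy⟩ := hno (j a) (hj a) (by simpa [l] using h0 ![1, 0]) (by simpa [l] using h0 ![0, 1])
    exact ⟨![x, y], ⟨a, by simpa [l] using hxy⟩, by simpa [l] using hxy.symm⟩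
  have hli : Function.Injective l := by
    rw [← LinearMap.ker_eq_bot, LinearMap.ker_eq_bot']
    intro c hc
    have h1 := h.ind (c 0) (c 1) hc
    funext i; fin_cases i
    · exact h1.1
    · exact h1.2
  have hK : Module.finrank F (LinearMap.ker φ) ≤ Module.finrank F W := by
    have h1 : (LinearMap.ker φ).map j ≤ W.map l := by
      rintro _ ⟨a, ha, rfl⟩
      obtain ⟨c, hc, e⟩ := hker a ha
      exact ⟨c, hc, e⟩
    have h2 := Submodule.finrank_mono h1
    rwa [← (Submodule.equivMapOfInjective j hji _).finrank_eq,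
      ← (Submodule.equivMapOfInjective l hli _).finrank_eq] at h2
  have hrange : LinearMap.range φ ≤ W.dualAnnihilator := by
    rintro _ ⟨a, rfl⟩
    rw [Submodule.mem_dualAnnihilator]
    rintro c ⟨b, hb⟩
    show Bf (l c) (j a) = 0
    rw [← hb, hjB]
  have h3 := Submodule.finrank_mono hrange
  have h4 := Subspace.finrank_add_finrank_dualAnnihilator_eq W
  have h5 := φ.finrank_range_add_finrank_ker
  simp only [Module.finrank_fin_fun] at h4 h5
  omega

theorem adj_opposite (hs : Setting f) {A B : Subgroup G} {p r p' r' : V} (hA : IsZ f A p r)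
    (hB : IsZ f B p' r') (h : Bf p p' * Bf r r' - Bf p r' * Bf r p' ≠ 0) : IsRankOnePair A B := by
  set D := Bf p p' * Bf r r' - Bf p r' * Bf r p' with hD
  have hne : Bf r r' / D * (Bf p p' / D) - -(Bf r p' / D) * -(Bf p r' / D) ≠ 0 := by
    have : Bf r r' / D * (Bf p p' / D) - -(Bf r p' / D) * -(Bf p r' / D) = D⁻¹ := by
      field_simp
      rw [hD]; ring
    rw [this]; exact inv_ne_zero h
  have hB' := hB.change (a := Bf r r' / D) (b := -(Bf r p' / D)) (c := -(Bf p r' / D))
    (d := Bf p p' / D) hne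
  refine (rankOne_case hs hA hB' ?_ ?_ ?_ ?_).1 <;>
    simp only [Bf_add_right, Bf_smul_right] <;> field_simp <;> rw [hD] <;> ring

local notation "Reach" => Relation.ReflTransGen (FAdj (S f))

theorem reach_plane (hs : Setting f) {A B : Subgroup G} {p p' r : V} (hA : IsZ f A p r)
    (hB : IsZ f B p' r) (hpp : Bf p p' = 0) : Reach A B := by
  by_cases hin : ∀ a b : F, p' ≠ a • p + b • r
  · have hli := three_li hA.line hin
    obtain ⟨x, hx⟩ := exists_values ![p, r, p'] hli ![1, 0, 1]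
    have x1 : Bf p x = 1 := hx 0
    have x2 : Bf r x = 0 := hx 1
    have x3 : Bf p' x = 1 := hx 2
    set x' := x - Q x • p with hx'
    have y1 : Bf p x' = 1 := by
      rw [hx', Bf_sub_right, Bf_smul_right, Bf_self_zero hA.line.qp, x1]; ring
    have y2 : Bf r x' = 0 := by
      rw [hx', Bf_sub_right, Bf_smul_right, hA.line.orth', x2]; ring
    have y3 : Bf p' x' = 1 := by
      rw [hx', Bf_sub_right, Bf_smul_right, Bf_symm p' p, hpp, x3]; ring
    have yq : Q x' = 0 := by
      rw [hx', sub_eq_add_neg, ← neg_smul, Q_add, Q_smul, hA.line.qp, Bf_smul_right, Bf_symm x p, x1]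
      ring
    have hli2 : LinearIndependent F ![r, x'] := by
      rw [LinearIndependent.pair_iff]
      intro a b e
      have h1 : b = 0 := by
        have := congrArg (Bf p) e
        simpa [Bf_add_right, Bf_smul_right, hA.line.orth, y1, Bf_zero_right] using this
      subst h1
      exact ⟨(hA.line.ind 0 a (by rw [zero_smul, zero_add]; simpa using e)).2, rfl⟩
    obtain ⟨z, hz⟩ := exists_values ![r, x'] hli2 ![1, 0]
    have z1 : Bf r z = 1 := hz 0
    have z2 : Bf x' z = 0 := hz 1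
    set z' := z - Q z • r with hz'
    have w1 : Bf r z' = 1 := by
      rw [hz', Bf_sub_right, Bf_smul_right, Bf_self_zero hA.line.qr, z1]; ring
    have w2 : Bf x' z' = 0 := by
      rw [hz', Bf_sub_right, Bf_smul_right, Bf_symm x' r, y2, z2]; ring
    have wq : Q z' = 0 := by
      rw [hz', sub_eq_add_neg, ← neg_smul, Q_add, Q_smul, hA.line.qr, Bf_smul_right, Bf_symm z r, z1]
      ring
    have hl : Line x' z' := by
      refine ⟨fun a b e => ?_, yq, wq, w2⟩
      have h2 := congrArg (Bf r) e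
      rw [Bf_add_right, Bf_smul_right, Bf_smul_right, y2, w1, Bf_zero_right] at h2
      have hb : b = 0 := by linear_combination h2
      subst hb
      have h3 := congrArg (Bf p) e
      rw [Bf_add_right, Bf_smul_right, Bf_smul_right, y1, Bf_zero_right] at h3
      exact ⟨by linear_combination h3, rfl⟩
    obtain ⟨C, hC⟩ := hs.has _ _ hl
    have e1 := adj_opposite hs hA hC (by rw [y1, w1, y2]; simp)
    have e2 := adj_opposite hs hB hC (by rw [y3, w1, y2]; simp)
    exact (Relation.ReflTransGen.single ⟨⟨_, _, hA⟩, ⟨_, _, hC⟩, e1⟩).tail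
      ⟨⟨_, _, hC⟩, ⟨_, _, hB⟩, RankOnePair_symm e2⟩
  · push Not at hin
    obtain ⟨a, b, rfl⟩ := hin
    have ha : a ≠ 0 := by
      rintro rfl
      exact one_ne_zero (hB.line.ind 1 (-b) (by module)).1
    have h2 := hA.change (a := a) (b := b) (c := 0) (d := 1) (by simpa using ha)
    simp only [one_smul, zero_smul, zero_add] at h2
    rw [h2.unique hs hB]

theorem reach_meet (hn : 3 ≤ n) (hs : Setting f) {A B : Subgroup G} {p p' r : V}
    (hA : IsZ f A p r) (hB : IsZ f B p' r) : Reach A B := by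
  by_cases hpp : Bf p p' = 0
  · exact reach_plane hs hA hB hpp
  · obtain ⟨y, hy, hy1, hy2, hy3⟩ := exists_plane hn hA.line
    set s := y + (-(Bf p' y / Bf p' p)) • p with hs'
    have hpp' : Bf p' p ≠ 0 := by rwa [Bf_symm]
    have s1 : Bf p s = 0 := by
      rw [hs', Bf_add_right, Bf_smul_right, Bf_self_zero hA.line.qp, hy1]; ring
    have s3 : Bf p' s = 0 := by
      rw [hs', Bf_add_right, Bf_smul_right]; field_simp; ring
    have hl : Line s r := by
      refine ⟨fun a b e => ?_, ?_, hA.line.qr, ?_⟩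
      · have ha : a = 0 := by
          by_contra ha
          refine hy3 (Bf p' y / Bf p' p) (-(b / a)) ?_
          have e2 : y = a⁻¹ • (a • s + b • r) + (Bf p' y / Bf p' p) • p + (-(b / a)) • r := by
            rw [hs', smul_add, smul_smul, smul_smul, inv_mul_cancel₀ ha, one_smul, div_eq_inv_mul b a]
            module
          rwa [e, smul_zero, zero_add] at e2
        subst ha
        rw [zero_smul, zero_add] at e
        exact ⟨rfl, (hA.line.ind 0 b (by rw [zero_smul, zero_add, e])).2⟩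
      · rw [hs', Q_add, Q_smul, hy, hA.line.qp, Bf_smul_right, Bf_symm y p, hy1]; ring
      · rw [hs', Bf_add_left, Bf_smul_left, Bf_symm y r, hy2, hA.line.orth]; ring
    obtain ⟨C, hC⟩ := hs.has _ _ hl
    exact (reach_plane hs hA hC s1).trans (reach_plane hs hC hB (by rw [Bf_symm]; exact s3))

theorem connected (hn : 3 ≤ n) (hs : Setting f) : IsConnectedFamily (FAdj (S f)) (S f) := by
  rintro A ⟨p, r, hA⟩ B ⟨p', r', hB⟩
  obtain ⟨z, w, hA', hz⟩ : ∃ z w, IsZ f A z w ∧ Bf z p' = 0 := by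
    by_cases hr : Bf r p' = 0
    · exact ⟨r, p, hA.swap, hr⟩
    · have h2 := hA.change (a := 1) (b := -(Bf p p' / Bf r p')) (c := 0) (d := 1) (by simp)
      refine ⟨_, _, h2, ?_⟩
      rw [Bf_add_left, Bf_smul_left, Bf_smul_left]; field_simp; ring
  by_cases hin : ∃ l : F, z = l • p'
  · obtain ⟨l, rfl⟩ := hin
    have hl : l ≠ 0 := by
      rintro rfl
      exact one_ne_zero (hA'.line.ind 1 0 (by simp)).1
    have h2 := hA'.change (a := l⁻¹) (b := 0) (c := 0) (d := 1) (by simp [hl])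
    rw [smul_smul, inv_mul_cancel₀ hl, one_smul, zero_smul, add_zero, zero_smul, zero_add, one_smul] at h2
    exact reach_meet hn hs h2.swap hB.swap
  · push Not at hin
    have hl : Line z p' := by
      refine ⟨fun a b e => ?_, hA'.line.qp, hB.line.qp, hz⟩
      by_cases ha : a = 0
      · subst ha
        rw [zero_smul, zero_add] at e
        exact ⟨rfl, (hB.line.ind b 0 (by rw [zero_smul, add_zero, e])).1⟩
      · exfalso
        refine hin (-(b / a)) ?_
        rw [show z = a⁻¹ • (a • z) by rw [smul_smul, inv_mul_cancel₀ ha, one_smul],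
          eq_neg_of_add_eq_zero_left e, smul_neg, smul_smul, neg_smul, div_eq_inv_mul]
    obtain ⟨C, hC⟩ := hs.has _ _ hl
    exact (reach_meet hn hs hA'.swap hC.swap).trans (reach_meet hn hs hC hB.swap)

end Cfsg.Agent.RootExamples.Siegel
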